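import Cfsg.Agent.Lib.C4.ThreeThree.So

/-!
# `A ⊗ B`, both of dimension three: averaging a projection over the cosets of the wreath part

The non-trivial cosets of the wreath part fall into regular orbits of the elements `yt` of either factor, so
their contribution to the average at a vector fixed by `P` lies in the images of both orbit sums.

* `sum_ad_line`, `exists_fixed_vec`, `sum_mem_map`
* `ad_mem` : the image of the projection is invariant under `M`
-/

set_option autoImplicit false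
set_option linter.unusedSectionVars false
set_option linter.unusedSimpArgs false

namespace Cfsg.Agent.TenForm.ThreeThree

open Module
open Cfsg.Agent.TenForm TT

variable {ι : Type} [Fintype ι] [DecidableEq ι] {F : Type*} [Field F] [Fintype F]
variable {C : TT ι F 3 3} {K M : Subgroup ((ι → F) ≃ₗ[F] (ι → F))}
variable {a d α b c w : Fin 3 → F}

theorem four_ne (C : TT ι F 3 3) : (4 : F) ≠ 0 := by
  rw [show (4 : F) = 2 * 2 by norm_num]; exact mul_ne_zero C.two C.two

theorem yt_inv (Fb : Frame C b c w) (t : F) : (yt Fb t)⁻¹ = yt Fb (-t) :=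
  inv_eq_of_mul_eq_one_right (by rw [yt_add, add_neg_cancel, yt_zero])

theorem sum_ad_line (hq : 5 ≤ Fintype.card F) (Fb : Frame C b c w) (Z : Module.End F (ι → F)) :
    ∑ t : F, ad (yt Fb t) Z = (∑ t : F, t ^ 4) • ((4 : F)⁻¹ • (sv C b w * Z * sv C b w)) := by
  set D := dv C b w
  set S := sv C b w
  have h2' := C.two
  have h4 := four_ne C
  have hexp : ∀ s : F, ad (yt Fb s) Z = Z + s • (D * Z - Z * D) +
      s ^ 2 • ((2 : F)⁻¹ • (S * Z) - D * Z * D + (2 : F)⁻¹ • (Z * S)) +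
      s ^ 3 • ((2 : F)⁻¹ • (D * Z * S) - (2 : F)⁻¹ • (S * Z * D)) +
      s ^ 4 • ((4 : F)⁻¹ • (S * Z * S)) := fun s => by
    rw [show ad (yt Fb s) Z = (yt Fb s).toLinearMap * Z * (yt Fb (-s)).toLinearMap from ?_, yt, yt,
      yv_eq Fb.h2, yv_eq Fb.h2]
    · simp only [add_mul, mul_add, smul_mul_assoc, mul_smul_comm, one_mul, mul_one, smul_smul, neg_smul,
        mul_neg, neg_mul, smul_add, smul_sub, smul_neg, mul_assoc, add_assoc]
      match_scalars <;> field_simp <;> ring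
    · refine LinearMap.ext fun x => ?_
      rw [ad_apply, show (yt Fb s).symm = (yt Fb s)⁻¹ from rfl, yt_inv]
      rfl
  have h0 : ∀ k, k < 4 → ∑ s : F, s ^ k = 0 := fun k hk =>
    FiniteField.sum_pow_lt_card_sub_one F k (by omega)
  have h1 : ∑ s : F, s = 0 := by simpa using h0 1 (by norm_num)
  simp only [hexp, Finset.sum_add_distrib, ← Finset.sum_smul, h1, h0 2 (by norm_num),
    h0 3 (by norm_num), zero_smul, add_zero, Finset.sum_const, Finset.card_univ]
  rw [← Nat.cast_smul_eq_nsmul F, FiniteField.cast_card_eq_zero, zero_smul, zero_add]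

theorem exists_fixed_vec (Fa : Frame C.swap a d α) (Fb : Frame C b c w)
    (U : Submodule F (Module.End F (ι → F))) (hU : U ≠ ⊥)
    (hstab : ∀ x, ∀ u ∈ U, ad (pp Fa Fb x) u ∈ U) :
    ∃ u ∈ U, u ≠ 0 ∧ ∀ x, ad (pp Fa Fb x) u = u := by
  classical
  haveI : CharP F (ringChar F) := ringChar.charP F
  haveI : Fact (ringChar F).Prime := ⟨CharP.char_is_prime F (ringChar F)⟩
  set p := ringChar F
  obtain ⟨u₀, hu₀, hu₀0⟩ := Submodule.exists_mem_ne_zero_of_ne_bot hU
  haveI : Nontrivial (Module.End F (ι → F)) := ⟨⟨u₀, 0, hu₀0⟩⟩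
  haveI : CharP (Module.End F (Module.End F (ι → F))) p :=
    charP_of_injective_algebraMap (algebraMap F (Module.End F (Module.End F (ι → F)))).injective p
  suffices h : ∀ T : Finset (F × F), ∃ u ∈ U, u ≠ 0 ∧ ∀ x ∈ T, ad (pp Fa Fb x) u = u by
    obtain ⟨u, hu, hu0, hfix⟩ := h Finset.univ
    exact ⟨u, hu, hu0, fun x => hfix x (Finset.mem_univ x)⟩
  intro T
  induction T using Finset.induction_on with
  | empty => exact ⟨u₀, hu₀, hu₀0, fun x h => absurd h (Finset.notMem_empty x)⟩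
  | @insert g T _ ih =>
    obtain ⟨u, hu, hu0, hfix⟩ := ih
    set A := ad (pp Fa Fb g) - 1 with hA
    have hAp : A ^ p = 0 := by
      rw [hA, sub_pow_char_of_commute (R := Module.End F (Module.End F (ι → F))) p
        (Commute.one_right (ad (pp Fa Fb g))), one_pow, ← ad_pow]
      rw [pp_pow, show p • g = 0 from Prod.ext (by simp [p, nsmul_eq_mul, CharP.cast_eq_zero])
        (by simp [p, nsmul_eq_mul, CharP.cast_eq_zero]), pp_zero, ad_one, sub_self]
    have hmem : ∀ n, (A ^ n) u ∈ U ∧ ∀ x ∈ T, ad (pp Fa Fb x) ((A ^ n) u) = (A ^ n) u := fun n => by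
      induction n with
      | zero => exact ⟨hu, hfix⟩
      | succ n ihn =>
        rw [pow_succ', Module.End.mul_apply, hA, LinearMap.sub_apply, Module.End.one_apply]
        refine ⟨U.sub_mem (hstab g _ ihn.1) ihn.1, fun x hx => ?_⟩
        rw [map_sub, ← Module.End.mul_apply, ← ad_mul, pp_add, add_comm, ← pp_add, ad_mul,
          Module.End.mul_apply]
        simp only [ihn.2 x hx, show A = ad (pp Fa Fb g) - 1 from rfl] at *
        rw [ihn.2 x hx]
    have hex : ∃ n, (A ^ n) u = 0 := ⟨p, by rw [hAp]; rfl⟩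
    obtain ⟨n, hn⟩ : ∃ n, Nat.find hex = n + 1 := Nat.exists_eq_succ_of_ne_zero fun e => by
      have := Nat.find_spec hex
      rw [e, pow_zero, Module.End.one_apply] at this
      exact hu0 this
    refine ⟨(A ^ n) u, (hmem n).1, Nat.find_min hex (by omega), fun x hx => ?_⟩
    rcases Finset.mem_insert.1 hx with rfl | h
    · have := Nat.find_spec hex
      rw [hn, pow_succ', Module.End.mul_apply, hA, LinearMap.sub_apply, Module.End.one_apply,
        sub_eq_zero] at this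
      exact this
    · exact (hmem n).2 x h

/-- An equivariant sum over regular orbits is an orbit sum. -/
theorem sum_mem_map {β : Type*} {E : Type*} [AddCommGroup E] [Module F E] (act : F → β → β)
    (h0 : ∀ x, act 0 x = x) (hadd : ∀ s t x, act (s + t) x = act s (act t x)) (s : Finset β)
    (hs : ∀ t, ∀ x ∈ s, act t x ∈ s) (hfree : ∀ t, ∀ x ∈ s, act t x = x → t = 0) (v : β → E)
    (L : F → E →ₗ[F] E) (hv : ∀ t, ∀ x ∈ s, v (act t x) = L t (v x)) (X : Submodule F E)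
    (hX : ∀ x ∈ s, v x ∈ X) : ∑ x ∈ s, v x ∈ X.map (∑ t, L t) := by
  classical
  let orb : β → Finset β := fun x => Finset.univ.image fun t => act t x
  have horb : ∀ x t, orb (act t x) = orb x := fun x t => by
    ext z
    simp only [orb, Finset.mem_image, Finset.mem_univ, true_and, ← hadd]
    exact ⟨fun ⟨r, h⟩ => ⟨r + t, h⟩, fun ⟨r, h⟩ => ⟨r - t, by rwa [sub_add_cancel]⟩⟩
  rw [← Finset.sum_fiberwise_of_maps_to (g := orb) (t := s.image orb) fun x hx => Finset.mem_image_of_mem orb hx]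
  refine Submodule.sum_mem _ fun O hO => ?_
  obtain ⟨x, hx, rfl⟩ := Finset.mem_image.1 hO
  refine ⟨v x, hX x hx, ?_⟩
  rw [show s.filter (fun z => orb z = orb x) = orb x from ?_, LinearMap.sum_apply, Finset.sum_image]
  · exact Finset.sum_congr rfl fun t _ => (hv t x hx).symm
  · intro t _ r _ e
    have := hfree (-r + t) x hx (by rw [hadd, show act t x = act r x from e, ← hadd, neg_add_cancel, h0])
    rwa [neg_add_eq_zero, eq_comm] at this
  · ext z
    simp only [Finset.mem_filter]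
    refine ⟨fun ⟨_, hz⟩ => hz ▸ Finset.mem_image.2 ⟨0, Finset.mem_univ _, h0 z⟩, fun hz => ?_⟩
    obtain ⟨t, -, rfl⟩ := Finset.mem_image.1 hz
    exact ⟨hs t x hx, horb x t⟩

/-- The image of the projection is invariant. -/
theorem ad_mem (hO : Ovg C K M) (Fa : Frame C.swap a d α) (Fb : Frame C b c w)
    (W Xs : Submodule F (Module.End F (ι → F))) (π : Module.End F (Module.End F (ι → F)))
    (hWX : W ≤ Xs) (hXs : ∀ g ∈ M, ∀ x ∈ Xs, ad g x ∈ Xs)
    (hπW : ∀ x, π x ∈ W) (hπid : ∀ x ∈ W, π x = x)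
    (hπc : ∀ h ∈ M, IsWr C h → ∀ x, π (ad h x) = ad h (π x))
    (hsum : ∀ Z ∈ Xs, ∀ Z' ∈ Xs, ∑ t, ad (yt Fb t) Z = ∑ s, ad (yt Fa s) Z' →
      ∑ t, ad (yt Fb t) Z = 0)
    (hspan : W ≤ Submodule.span F {x | ∃ h ∈ M, IsWr C h ∧ ∃ w₀ ∈ W,
      (∀ y, ad (pp Fa Fb y) w₀ = w₀) ∧ ad h w₀ = x}) :
    ∀ g ∈ M, ∀ x ∈ W, ad g x ∈ W := by
  classical
  haveI : Finite ((ι → F) ≃ₗ[F] (ι → F)) := Finite.of_injective _ DFunLike.coe_injective
  let H := wrSub C M
  letI : Fintype (M ⧸ H) := Fintype.ofFinite _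
  have hπH : ∀ h : M, h ∈ H →
      ad (h : (ι → F) ≃ₗ[F] (ι → F)) * π = π * ad (h : (ι → F) ≃ₗ[F] (ι → F)) :=
    fun h hh => LinearMap.ext fun Z => (hπc _ h.2 hh Z).symm
  let fr : M → Module.End F (Module.End F (ι → F)) := fun r =>
    ad (r : (ι → F) ≃ₗ[F] (ι → F)) * π * ad ((r : (ι → F) ≃ₗ[F] (ι → F))⁻¹)
  let Fq : M ⧸ H → Module.End F (Module.End F (ι → F)) := fun q => fr q.out
  have hFq : ∀ r : M, Fq (r : M ⧸ H) = fr r := fun r => by
    obtain ⟨⟨h, hh⟩, e⟩ := QuotientGroup.mk_out_eq_mul H r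
    show fr _ = fr r
    rw [e]
    simp only [fr, Subgroup.coe_mul, mul_inv_rev, ad_mul]
    rw [mul_assoc (ad _) (ad (h : (ι → F) ≃ₗ[F] (ι → F))), hπH h hh]
    simp only [mul_assoc]
    rw [← mul_assoc (ad (h : (ι → F) ≃ₗ[F] (ι → F))), ← ad_mul (h : (ι → F) ≃ₗ[F] (ι → F)), mul_inv_cancel,
      ad_one, one_mul]
  have hFsm : ∀ (g : M) (q : M ⧸ H), Fq (g • q) =
      ad (g : (ι → F) ≃ₗ[F] (ι → F)) * Fq q * ad ((g : (ι → F) ≃ₗ[F] (ι → F))⁻¹) := fun g q => by
    induction q using QuotientGroup.induction_on with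
    | H r =>
      rw [MulAction.Quotient.smul_coe, smul_eq_mul, hFq, hFq]
      simp only [fr, Subgroup.coe_mul, mul_inv_rev, ad_mul, mul_assoc]
  set Φ := ∑ q, Fq q with hΦ
  have hΦc : ∀ g ∈ M, ∀ x, ad g (Φ x) = Φ (ad g x) := fun g hg x => by
    have e : ad g * Φ * ad g⁻¹ = Φ := by
      rw [hΦ, Finset.mul_sum, Finset.sum_mul]
      refine (Finset.sum_congr rfl fun q _ => (hFsm ⟨g, hg⟩ q).symm).trans ?_
      exact Equiv.sum_comp (MulAction.toPerm (⟨g, hg⟩ : M)) Fq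
    conv_rhs => rw [← e]
    rw [Module.End.mul_apply, Module.End.mul_apply, ad_inv_left]
  let q₀ : M ⧸ H := ((1 : M) : M ⧸ H)
  -- the part outside the trivial coset lies in both orbit sums
  have horbit : ∀ (z : F → (ι → F) ≃ₗ[F] (ι → F)) (hz : ∀ t, z t ∈ M) (_ : z 0 = 1)
      (_ : ∀ s t, z (s + t) = z s * z t) (_ : ∀ t, IsWr C (z t))
      (_ : ∀ g ∈ M, ∀ t, t ≠ 0 → IsWr C (g⁻¹ * z t * g) → IsWr C g),
      ∀ u ∈ Xs, (∀ t, ad (z t) u = u) →
      ∑ q ∈ Finset.univ.erase q₀, Fq q u ∈ Xs.map (∑ t, ad (z t)) := by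
    intro z hz hz0 hzadd hzw hconj u hu hufix
    let y : F → M := fun t => ⟨z t, hz t⟩
    refine sum_mem_map (fun t q => y t • q) (fun q => ?_) (fun s t q => ?_) _ (fun t q hq => ?_)
      (fun t q hq e => ?_) _ _ (fun t q _ => ?_) Xs fun q _ => ?_
    · rw [show y 0 = 1 from Subtype.ext hz0, one_smul]
    · rw [smul_smul]; congr 1; exact Subtype.ext (hzadd s t)
    · refine Finset.mem_erase.2 ⟨fun e => (Finset.mem_erase.1 hq).1 ?_, Finset.mem_univ _⟩
      have hy0 : (y t)⁻¹ • q₀ = q₀ := by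
        rw [show (y t)⁻¹ • q₀ = (((y t)⁻¹ * 1 : M) : M ⧸ H) from rfl, mul_one]
        refine QuotientGroup.eq.2 ?_
        rw [mul_one, inv_inv]
        exact hzw t
      rw [← hy0, ← e, inv_smul_smul]
    · by_contra hne
      obtain ⟨r, rfl⟩ := QuotientGroup.mk_surjective q
      rw [MulAction.Quotient.smul_coe, smul_eq_mul, QuotientGroup.eq] at e
      have e' := inv_mem e
      rw [mul_inv_rev, inv_inv, ← mul_assoc] at e'
      refine (Finset.mem_erase.1 hq).1 (QuotientGroup.eq.2 ?_)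
      rw [mul_one]
      exact inv_mem (hconj _ r.2 t hne e' : r ∈ H)
    · rw [hFsm, Module.End.mul_apply, Module.End.mul_apply]
      congr 2
      conv_lhs => rw [← hufix t]
      exact ad_inv_left _ u
    · exact hXs _ q.out.2 _ (hWX (hπW _))
  have hppM : ∀ y, pp Fa Fb y ∈ M := pp_mem hO Fa Fb
  have hfix : ∀ u ∈ Xs, (∀ y, ad (pp Fa Fb y) u = u) → Φ u = π u := by
    intro u hu hf
    obtain ⟨Z, hZ, eZ⟩ := horbit (yt Fb) (yt_mem hO Fb) (yt_zero Fb) (fun s t => (yt_add Fb s t).symm)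
      (fun t => .inl (by rw [← pp_snd Fa Fb]; exact isTen_pp Fa Fb _))
      (fun g hg t ht h => isWr_of_conj hO Fa Fb hg ht h) u hu fun t => by rw [← pp_snd Fa Fb]; exact hf _
    obtain ⟨Z', hZ', eZ'⟩ := horbit (yt Fa) (yt_mem hO.symm Fa) (yt_zero Fa)
      (fun s t => (yt_add Fa s t).symm) (fun t => .inl (by rw [← pp_fst Fa Fb]; exact isTen_pp Fa Fb _))
      (fun g hg t ht h => isWr_swap.1 (isWr_of_conj hO.symm Fb Fa hg ht (isWr_swap.2 h))) u hu
      fun t => by rw [← pp_fst Fa Fb]; exact hf _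
    rw [LinearMap.sum_apply] at eZ eZ'
    have h0 := hsum Z hZ Z' hZ' (eZ.trans eZ'.symm)
    rw [eZ] at h0
    rw [hΦ, LinearMap.sum_apply, ← Finset.add_sum_erase _ _ (Finset.mem_univ q₀), h0, add_zero, hFq]
    simp [fr, ad_one]
  have hΦid : ∀ x ∈ W, Φ x = x := fun x hx => by
    have hle : W ≤ LinearMap.ker (Φ - 1) := hspan.trans (Submodule.span_le.2 (by
      rintro _ ⟨h, hh, -, w₀, hw₀, hf, rfl⟩
      rw [SetLike.mem_coe, LinearMap.mem_ker, LinearMap.sub_apply, Module.End.one_apply, sub_eq_zero,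
        ← hΦc h hh, hfix w₀ (hWX hw₀) hf, hπid w₀ hw₀]))
    have := hle hx
    rwa [LinearMap.mem_ker, LinearMap.sub_apply, Module.End.one_apply, sub_eq_zero] at this
  intro g hg x hx
  set z := ad g x with hz
  have hzΦ : Φ z = z := by rw [hz, ← hΦc g hg, hΦid x hx]
  set y := z - π z with hy
  by_contra hzW
  have hy0 : y ≠ 0 := fun e => hzW (by rw [sub_eq_zero.1 e]; exact hπW z)
  let U := Xs ⊓ LinearMap.ker (Φ - π - 1)
  have hUm : ∀ u, u ∈ U ↔ u ∈ Xs ∧ Φ u - π u = u := fun u => by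
    simp [U, LinearMap.mem_ker, sub_eq_zero]
  have hyU : y ∈ U := (hUm y).2 ⟨Xs.sub_mem (hXs g hg x (hWX hx)) (hWX (hπW z)), by
    rw [hy, map_sub, map_sub, hzΦ, hΦid _ (hπW z), hπid _ (hπW z)]
    abel⟩
  obtain ⟨u, hu, hu0, huf⟩ := exists_fixed_vec Fa Fb U (fun e => hy0 (by simpa [e] using hyU))
    fun p u hu => by
    rw [hUm] at hu ⊢
    refine ⟨hXs _ (hppM p) _ hu.1, ?_⟩
    rw [← hΦc _ (hppM p), hπc _ (hppM p) (.inl (isTen_pp Fa Fb p)), ← map_sub, hu.2]
  rw [hUm] at hu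
  rw [hfix u hu.1 huf, sub_self] at hu
  exact hu0 hu.2.symm

end Cfsg.Agent.TenForm.ThreeThree
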