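import Cfsg.Agent.Lib.C4.ThreeThree.Rad
import Mathlib.GroupTheory.Sylow

/-!
# `A ⊗ B`, both of dimension three: the abelian group `P = U_A × U_B`

* `pp` : the elements `eA (a, s α) ⊗ eA (b, t w)`
* `axes` : a permutation of `P` induced by any linear map preserves the two axes
* `isWr_of_norm`, `isTen_of_comm`
* `isWr_of_conj` : `g ∈ M` with `g⁻¹ yv g` in the wreath part lies in it
-/

set_option autoImplicit false
set_option linter.unusedSectionVars false
set_option linter.unusedSimpArgs false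

namespace Cfsg.Agent.TenForm.ThreeThree

open Module
open Cfsg.Agent.TenForm TT
open scoped Pointwise

variable {ι : Type} [Fintype ι] [DecidableEq ι] {F : Type*} [Field F] [Fintype F]
variable {C : TT ι F 3 3} {K M : Subgroup ((ι → F) ≃ₗ[F] (ι → F))}
variable {a d α b c w : Fin 3 → F}

/-! ### the wreath part -/

theorem one_app {E : Type*} [AddCommGroup E] [Module F E] (x : E) : (1 : E ≃ₗ[F] E) x = x := rfl

theorem isWr_te (σ τ : (Fin 3 → F) ≃ₗ[F] (Fin 3 → F)) : IsWr C (C.te σ τ) := .inl (isTen_te σ τ)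

theorem isWr_one : IsWr C (1 : (ι → F) ≃ₗ[F] (ι → F)) := .inl ⟨1, 1, fun _ _ => rfl⟩

theorem IsWr.mul {m m' : (ι → F) ≃ₗ[F] (ι → F)} (h : IsWr C m) (h' : IsWr C m') : IsWr C (m * m') := by
  rcases h with ⟨σ, τ, h⟩ | ⟨σ, τ, h⟩ <;> rcases h' with ⟨σ', τ', h'⟩ | ⟨σ', τ', h'⟩
  · exact .inl ⟨σ * σ', τ * τ', fun a z => by rw [LinearEquiv.mul_apply, h', h]; rfl⟩
  · exact .inr ⟨τ * σ', σ * τ', fun a z => by rw [LinearEquiv.mul_apply, h', h]; rfl⟩
  · exact .inr ⟨σ * σ', τ * τ', fun a z => by rw [LinearEquiv.mul_apply, h', h]; rfl⟩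
  · exact .inl ⟨τ * σ', σ * τ', fun a z => by rw [LinearEquiv.mul_apply, h', h]; rfl⟩

theorem IsWr.inv {m : (ι → F) ≃ₗ[F] (ι → F)} (h : IsWr C m) : IsWr C m⁻¹ := by
  have hi : ∀ x, m (m⁻¹ x) = x := fun x => m.apply_symm_apply x
  rcases h with ⟨σ, τ, h⟩ | ⟨σ, τ, h⟩
  · exact .inl ⟨σ.symm, τ.symm, fun a z => m.injective (by
      rw [hi, h, LinearEquiv.apply_symm_apply, LinearEquiv.apply_symm_apply])⟩
  · exact .inr ⟨τ.symm, σ.symm, fun a z => m.injective (by
      rw [hi, h, LinearEquiv.apply_symm_apply, LinearEquiv.apply_symm_apply])⟩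

/-- The wreath part of `M`. -/
def wrSub (C : TT ι F 3 3) (M : Subgroup ((ι → F) ≃ₗ[F] (ι → F))) : Subgroup M where
  carrier := {m | IsWr C (m : (ι → F) ≃ₗ[F] (ι → F))}
  one_mem' := isWr_one
  mul_mem' h h' := h.mul h'
  inv_mem' h := h.inv

theorem mem_wrSub {m : M} : m ∈ wrSub C M ↔ IsWr C (m : (ι → F) ≃ₗ[F] (ι → F)) := Iff.rfl

theorem not_isTenS_one : ¬ IsTenS C (1 : (ι → F) ≃ₗ[F] (ι → F)) := by
  rintro ⟨σ, τ, h⟩
  set e : Fin 3 → (Fin 3 → F) := fun i => Pi.single i 1 with he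
  have he0 : e 0 ≠ 0 := by simp [he]
  obtain ⟨y, hy⟩ := C.swap.exists_dual ((LinearEquiv.map_ne_zero_iff σ).2 he0)
  have hy' : C.g (σ (e 0)) y = 1 := hy
  have hr : ∀ z, τ z = C.g z y • e 0 := fun z => by
    have := congrArg (C.prB y) (h (e 0) z)
    rw [one_app, C.prB_t, C.prB_t, hy', one_smul] at this
    exact this.symm
  obtain ⟨r, hr1⟩ : ∃ r : F, r • e 1 = e 0 := ⟨(C.g (τ.symm (e 1)) y)⁻¹, by
    have e1 := hr (τ.symm (e 1))
    rw [LinearEquiv.apply_symm_apply] at e1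
    have hne : C.g (τ.symm (e 1)) y ≠ 0 := fun h0 => by
      rw [h0, zero_smul] at e1
      simp [he] at e1
    exact (congrArg (fun v => (C.g (τ.symm (e 1)) y)⁻¹ • v) e1).trans (by
      simp only [smul_smul, inv_mul_cancel₀ hne, one_smul])⟩
  have := congrFun hr1 0
  simp [he] at this

theorem eq_ten_of_odd {m : (ι → F) ≃ₗ[F] (ι → F)} (h : IsWr C m) {N : ℕ} (hN : Odd N)
    (hm : m ^ N = 1) : C.IsTen m := by
  refine h.resolve_right fun ⟨σ, τ, hs⟩ => not_isTenS_one (C := C) ?_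
  obtain ⟨k, rfl⟩ := hN
  have heven : ∀ j : ℕ, C.IsTen ((m * m) ^ j) := fun j => by
    induction j with
    | zero => exact ⟨1, 1, fun _ _ => rfl⟩
    | succ j ih =>
      obtain ⟨σ', τ', h'⟩ := ih
      exact ⟨σ' * (τ * σ), τ' * (σ * τ), fun x z => by
        rw [pow_succ, LinearEquiv.mul_apply, LinearEquiv.mul_apply, hs, hs, h']; rfl⟩
  obtain ⟨σ', τ', h'⟩ := heven k
  refine ⟨σ * σ', τ * τ', fun x z => ?_⟩
  rw [← hm, pow_succ', pow_mul, pow_two, LinearEquiv.mul_apply, h', hs]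
  rfl

/-! ### the elements of `P` -/

/-- `x ↦ (v, x) b - (b, x) v`. -/
noncomputable def dv (C : TT ι F 3 3) (b v : Fin 3 → F) : Module.End F (ι → F) :=
  (C.t.flip b).comp (C.prB v) - (C.t.flip v).comp (C.prB b)

/-- `x ↦ -g (v, v) (b, x) b`. -/
noncomputable def sv (C : TT ι F 3 3) (b v : Fin 3 → F) : Module.End F (ι → F) :=
  -(C.g v v) • (C.t.flip b).comp (C.prB b)

theorem yv_eq (h2 : C.s₂ = 1) (hb : C.g b b = 0) (s : F)
    (hs : C.g b (s • w) = 0) : (yv C hb hs).toLinearMap =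
      1 + s • dv C b w + (s * s / 2) • sv C b w := by
  refine LinearMap.ext fun x => ?_
  rw [LinearEquiv.coe_coe, yv_apply h2]
  have h2' := C.two
  simp [dv, sv, map_smul, smul_smul]
  match_scalars <;> field_simp

/-- The element `1 ⊗ eA (b, t w)`. -/
noncomputable def yt (Fb : Frame C b c w) (t : F) : (ι → F) ≃ₗ[F] (ι → F) :=
  yv C Fb.bb (Fb.smul_w t)

theorem yt_mem (hO : Ovg C K M) (Fb : Frame C b c w) (t : F) : yt Fb t ∈ M := yv_mem hO _ _

theorem yt_te (Fb : Frame C b c w) (t : F) :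
    yt Fb t = C.te (LinearEquiv.refl F _) (C.swap.eA (a := b) (x := t • w) Fb.bb (Fb.smul_w t)) := rfl

theorem xt_te (Fa : Frame C.swap a d α) (s : F) :
    yt Fa s = C.te (C.eA (a := a) (x := s • α) Fa.bb (Fa.smul_w s)) (LinearEquiv.refl F _) := by
  rw [← te_swap]; rfl

theorem yt_add (Fb : Frame C b c w) (s t : F) : yt Fb s * yt Fb t = yt Fb (s + t) := by
  have h : C.g b (s • w + t • w) = 0 := by simp [Fb.bw]
  rw [yt, yt, yv_add Fb.h2 Fb.bb _ _ h]
  exact LinearEquiv.ext fun x => by rw [yt]; simp [yv_apply Fb.h2, add_smul]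

theorem yt_zero (Fb : Frame C b c w) : yt Fb 0 = 1 :=
  LinearEquiv.ext fun x => by simp [yt, yv_apply Fb.h2]

theorem yt_comm (Fa : Frame C.swap a d α) (Fb : Frame C b c w) (s t : F) :
    yt Fa s * yt Fb t = yt Fb t * yt Fa s := by
  rw [xt_te, yt_te, te_mul, te_mul]
  congr 1

/-- The elements of `P`. -/
noncomputable def pp (Fa : Frame C.swap a d α) (Fb : Frame C b c w) (x : F × F) :
    (ι → F) ≃ₗ[F] (ι → F) := yt Fa x.1 * yt Fb x.2

theorem pp_mem (hO : Ovg C K M) (Fa : Frame C.swap a d α) (Fb : Frame C b c w) (x : F × F) :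
    pp Fa Fb x ∈ M := mul_mem (yt_mem hO.symm Fa _) (yt_mem hO Fb _)

theorem pp_te (Fa : Frame C.swap a d α) (Fb : Frame C b c w) (x : F × F) :
    pp Fa Fb x = C.te (C.eA (a := a) (x := x.1 • α) Fa.bb (Fa.smul_w _))
      (C.swap.eA (a := b) (x := x.2 • w) Fb.bb (Fb.smul_w _)) := by
  rw [pp, xt_te, yt_te, te_mul]
  congr 1

theorem isTen_pp (Fa : Frame C.swap a d α) (Fb : Frame C b c w) (x : F × F) : C.IsTen (pp Fa Fb x) := by
  rw [pp_te]; exact isTen_te _ _

theorem pp_add (Fa : Frame C.swap a d α) (Fb : Frame C b c w) (x y : F × F) :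
    pp Fa Fb x * pp Fa Fb y = pp Fa Fb (x + y) := by
  rw [pp, pp, pp, Prod.fst_add, Prod.snd_add, ← yt_add Fa, ← yt_add Fb, mul_assoc, ← mul_assoc (yt Fb x.2),
    ← yt_comm Fa Fb, mul_assoc (yt Fa y.1), ← mul_assoc]

theorem pp_zero (Fa : Frame C.swap a d α) (Fb : Frame C b c w) : pp Fa Fb 0 = 1 := by
  rw [pp, Prod.fst_zero, Prod.snd_zero, yt_zero, yt_zero, one_mul]

theorem pp_snd (Fa : Frame C.swap a d α) (Fb : Frame C b c w) (t : F) :
    pp Fa Fb (0, t) = yt Fb t := by rw [pp, yt_zero, one_mul]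

theorem pp_fst (Fa : Frame C.swap a d α) (Fb : Frame C b c w) (s : F) :
    pp Fa Fb (s, 0) = yt Fa s := by rw [pp, yt_zero, mul_one]

theorem pp_pow (Fa : Frame C.swap a d α) (Fb : Frame C b c w) (x : F × F) (n : ℕ) :
    pp Fa Fb x ^ n = pp Fa Fb (n • x) := by
  induction n with
  | zero => rw [pow_zero, zero_smul, pp_zero]
  | succ n ih => rw [pow_succ, ih, pp_add, succ_nsmul]

/-- The values of `P` at a vector are polynomial. -/
theorem pp_poly (Fa : Frame C.swap a d α) (Fb : Frame C b c w) (v : ι → F) :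
    ∃ u : Fin 3 → Fin 3 → (ι → F), ∀ x : F × F,
      pp Fa Fb x v = ∑ i : Fin 3, ∑ j : Fin 3, (x.1 ^ (i : ℕ) * x.2 ^ (j : ℕ)) • u i j := by
  let P : Fin 3 → Module.End F (ι → F) := ![1, dv C.swap a α, (2 : F)⁻¹ • sv C.swap a α]
  let Q : Fin 3 → Module.End F (ι → F) := ![1, dv C b w, (2 : F)⁻¹ • sv C b w]
  refine ⟨fun i j => P i (Q j v), fun x => ?_⟩
  have hA : ∀ y, yt Fa x.1 y = ∑ i : Fin 3, (x.1 ^ (i : ℕ)) • P i y := fun y => by
    have e := LinearMap.congr_fun (yv_eq (C := C.swap) Fa.h2 Fa.bb x.1 (Fa.smul_w x.1)) y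
    rw [LinearEquiv.coe_coe] at e
    rw [yt, e]
    simp [P, Fin.sum_univ_three, smul_smul, pow_two, div_eq_mul_inv, add_assoc]
  have hB : ∀ y, yt Fb x.2 y = ∑ j : Fin 3, (x.2 ^ (j : ℕ)) • Q j y := fun y => by
    have e := LinearMap.congr_fun (yv_eq (C := C) Fb.h2 Fb.bb x.2 (Fb.smul_w x.2)) y
    rw [LinearEquiv.coe_coe] at e
    rw [yt, e]
    simp [Q, Fin.sum_univ_three, smul_smul, pow_two, div_eq_mul_inv, add_assoc]
  rw [pp, LinearEquiv.mul_apply, hA, hB]
  refine Finset.sum_congr rfl fun i _ => ?_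
  rw [map_sum, Finset.smul_sum]
  exact Finset.sum_congr rfl fun j _ => by rw [map_smul, smul_smul]

theorem pp_coord (Fa : Frame C.swap a d α) (Fb : Frame C b c w) (x : F × F) :
    C.p (pp Fa Fb x (C.t d b)) (C.t α c) = -(x.1 * C.f α α) ∧
    C.p (pp Fa Fb x (C.t a c)) (C.t d w) = -(x.2 * C.g w w) ∧
    C.p (pp Fa Fb x (C.t d c)) (C.t d c) = x.1 ^ 2 * x.2 ^ 2 * (C.f α α * C.g w w / 4) := by
  have h1 : C.s₁ = 1 := Fa.h2
  have h2 := Fb.h2
  have e1 : C.f a a = 0 := Fa.bb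
  have e2 : C.f d d = 0 := Fa.cc
  have e3 : C.f a d = 1 := Fa.bc
  have e4 : C.f a α = 0 := Fa.bw
  have e5 : C.f d α = 0 := Fa.cw
  have e6 : C.f d a = 1 := Fa.cb
  have e7 : C.f α a = 0 := Fa.wb
  have e8 : C.f α d = 0 := Fa.wc
  have hv : ∀ z, C.swap.eA (a := b) (x := x.2 • w) Fb.bb (Fb.smul_w x.2) z =
      z + C.g (x.2 • w) z • b - C.g b z • (x.2 • w) -
        (C.g b z * C.g (x.2 • w) (x.2 • w) / 2) • b := fun z => eA_val (C := C.swap) h2 Fb.bb _ z
  have hu : ∀ z, C.eA (a := a) (x := x.1 • α) Fa.bb (Fa.smul_w x.1) z =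
      z + C.f (x.1 • α) z • a - C.f a z • (x.1 • α) -
        (C.f a z * C.f (x.1 • α) (x.1 • α) / 2) • a := fun z => eA_val h1 Fa.bb _ z
  rw [pp_te]
  have h22 := C.two
  have h44 : (4 : F) ≠ 0 := by rw [show (4 : F) = 2 * 2 by norm_num]; exact mul_ne_zero h22 h22
  refine ⟨?_, ?_, ?_⟩ <;>
    · simp [C.te_t, C.pol, hu, hv, e1, e2, e3, e4, e5, e6, e7, e8, Fb.bb, Fb.cc, Fb.bc, Fb.cb, Fb.bw,
        Fb.cw, Fb.wb, Fb.wc]
      try field_simp
      try ring

theorem pp_inj (Fa : Frame C.swap a d α) (Fb : Frame C b c w) {x y : F × F}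
    (h : pp Fa Fb x = pp Fa Fb y) : x = y := by
  obtain ⟨h1, h2, -⟩ := pp_coord Fa Fb x
  obtain ⟨k1, k2, -⟩ := pp_coord Fa Fb y
  rw [h, k1, neg_inj] at h1
  rw [h, k2, neg_inj] at h2
  exact Prod.ext (mul_right_cancel₀ (show C.f α α ≠ 0 from Fa.qw) h1.symm)
    (mul_right_cancel₀ Fb.qw h2.symm)

theorem exists_sq_ne (hq : 5 ≤ Fintype.card F) : ∃ s : F, s * s ≠ 0 ∧ s * s ≠ 1 := by
  classical
  obtain ⟨s, -, hs⟩ := Finset.exists_mem_notMem_of_card_lt_card
    (s := ({0, 1, -1} : Finset F)) (t := Finset.univ) (by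
      have := Finset.card_le_three (a := (0 : F)) (b := 1) (c := -1)
      rw [Finset.card_univ]; omega)
  simp only [Finset.mem_insert, Finset.mem_singleton, not_or] at hs
  exact ⟨s, mul_ne_zero hs.1 hs.1, fun h => by
    rcases mul_self_eq_one_iff.1 h with h | h
    · exact hs.2.1 h
    · exact hs.2.2 h⟩

/-- A multiple of `s ^ 4` of degree two vanishes. -/
theorem quartic_zero (h22 : (2 : F) ≠ 0) (hq : 5 ≤ Fintype.card F) {κ k₀ k₁ k₂ : F}
    (h : ∀ s : F, κ * s ^ 4 = k₀ + s * k₁ + s ^ 2 * k₂) : κ = 0 := by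
  obtain ⟨s, hs0, hs1⟩ := exists_sq_ne hq
  have h0 := h 0
  have hk1 : k₁ = 0 := (mul_eq_zero.1 (show (2 : F) * k₁ = 0 by
    linear_combination h (-1) - h 1)).resolve_left h22
  refine (mul_eq_zero.1 (show κ * ((s * s) * (s * s - 1)) = 0 by
    linear_combination h s - (s ^ 2) * h 1 + (s ^ 2 - 1) * h0 + (s - s ^ 2) * hk1)).resolve_right ?_
  exact mul_ne_zero hs0 (sub_ne_zero.2 hs1)

/-- A linear map normalising `P` preserves or exchanges the axes. -/
theorem axes (hq : 5 ≤ Fintype.card F) (Fa : Frame C.swap a d α) (Fb : Frame C b c w)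
    {n : (ι → F) ≃ₗ[F] (ι → F)} (hn : ∀ x, ∃ y, n * pp Fa Fb x * n⁻¹ = pp Fa Fb y) :
    ∃ t : F, t ≠ 0 ∧ (n * yt Fb 1 * n⁻¹ = yt Fb t ∨ n * yt Fb 1 * n⁻¹ = yt Fa t) := by
  choose φ hφ using hn
  have h22 := C.two
  have hadd : ∀ x y, φ (x + y) = φ x + φ y := fun x y => pp_inj Fa Fb (by
    rw [← hφ, ← pp_add Fa Fb (φ x), ← hφ, ← hφ, ← pp_add Fa Fb x]; group)
  have hinj : ∀ x, φ x = 0 → x = 0 := fun x hx => pp_inj Fa Fb (by
    have e := hφ x
    rw [hx, pp_zero, mul_inv_eq_one, mul_eq_left] at e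
    rw [e, pp_zero])
  have hW : ∀ (v u : ι → F), ∃ k : Fin 3 → Fin 3 → F, ∀ x,
      C.p (pp Fa Fb (φ x) v) u = ∑ i : Fin 3, ∑ j : Fin 3, x.1 ^ (i : ℕ) * x.2 ^ (j : ℕ) * k i j := by
    intro v u
    obtain ⟨U, hU⟩ := pp_poly Fa Fb (n⁻¹ v)
    refine ⟨fun i j => C.p (n (U i j)) u, fun x => ?_⟩
    rw [← hφ, LinearEquiv.mul_apply, LinearEquiv.mul_apply, hU]
    simp [map_sum, LinearMap.sum_apply]
  -- additive functions of degree two in each variable are linear
  have hlin : ∀ (G : F × F → F), (∀ x y, G (x + y) = G x + G y) →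
      (∃ k : Fin 3 → Fin 3 → F, ∀ x, G x = ∑ i : Fin 3, ∑ j : Fin 3, x.1 ^ (i : ℕ) * x.2 ^ (j : ℕ) * k i j) →
      ∃ p₁ p₂ : F, ∀ x, G x = p₁ * x.1 + p₂ * x.2 := by
    rintro G hG ⟨k, hk⟩
    have h0 : k 0 0 = 0 := by
      have := hG 0 0
      rw [add_zero, eq_comm, add_eq_left] at this
      simpa [hk, Fin.sum_univ_three] using this
    have h20 : k 2 0 = 0 := by
      have := hG (1, 0) (1, 0)
      simp [hk, Fin.sum_univ_three, h0] at this
      exact (mul_eq_zero.1 (show (2 : F) * k 2 0 = 0 by linear_combination this)).resolve_left h22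
    have h02 : k 0 2 = 0 := by
      have := hG (0, 1) (0, 1)
      simp [hk, Fin.sum_univ_three, h0] at this
      exact (mul_eq_zero.1 (show (2 : F) * k 0 2 = 0 by linear_combination this)).resolve_left h22
    refine ⟨k 1 0, k 0 1, fun x => ?_⟩
    rw [show x = (x.1, 0) + (0, x.2) by simp, hG]
    simp [hk, Fin.sum_univ_three, h0, h20, h02, mul_comm]
  have hqA : C.f α α ≠ 0 := Fa.qw
  have hqB := Fb.qw
  obtain ⟨p₁, p₂, hp⟩ := hlin (fun x => (φ x).1) (fun x y => by rw [hadd]; rfl) (by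
    obtain ⟨k, hk⟩ := hW (C.t d b) (C.t α c)
    refine ⟨fun i j => -(k i j) / C.f α α, fun x => ?_⟩
    have := hk x
    rw [(pp_coord Fa Fb _).1] at this
    rw [show (φ x).1 = -(∑ i : Fin 3, ∑ j : Fin 3, x.1 ^ (i : ℕ) * x.2 ^ (j : ℕ) * k i j) / C.f α α by
      rw [← this]; field_simp]
    simp only [neg_div, Finset.sum_div, ← Finset.sum_neg_distrib, mul_div_assoc, mul_neg])
  obtain ⟨r₁, r₂, hr⟩ := hlin (fun x => (φ x).2) (fun x y => by rw [hadd]; rfl) (by
    obtain ⟨k, hk⟩ := hW (C.t a c) (C.t d w)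
    refine ⟨fun i j => -(k i j) / C.g w w, fun x => ?_⟩
    have := hk x
    rw [(pp_coord Fa Fb _).2.1] at this
    rw [show (φ x).2 = -(∑ i : Fin 3, ∑ j : Fin 3, x.1 ^ (i : ℕ) * x.2 ^ (j : ℕ) * k i j) / C.g w w by
      rw [← this]; field_simp]
    simp only [neg_div, Finset.sum_div, ← Finset.sum_neg_distrib, mul_div_assoc, mul_neg])
  obtain ⟨k, hk⟩ := hW (C.t d c) (C.t d c)
  set κ := C.f α α * C.g w w / 4 with hκ
  have hκ0 : κ ≠ 0 := div_ne_zero (mul_ne_zero hqA hqB) (by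
    rw [show (4 : F) = 2 * 2 by norm_num]; exact mul_ne_zero h22 h22)
  have hprod : p₁ * r₁ = 0 := by
    have h := quartic_zero h22 hq (κ := (p₁ * r₁) ^ 2 * κ) (k₀ := k 0 0) (k₁ := k 1 0) (k₂ := k 2 0)
      fun s => by
      have := hk (s, 0)
      rw [(pp_coord Fa Fb _).2.2, hp, hr] at this
      simp [Fin.sum_univ_three] at this
      linear_combination this
    exact (pow_eq_zero_iff two_ne_zero).1 ((mul_eq_zero.1 h).resolve_right hκ0)
  have hprod₂ : p₂ * r₂ = 0 := by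
    have h := quartic_zero h22 hq (κ := (p₂ * r₂) ^ 2 * κ) (k₀ := k 0 0) (k₁ := k 0 1) (k₂ := k 0 2)
      fun s => by
      have := hk (0, s)
      rw [(pp_coord Fa Fb _).2.2, hp, hr] at this
      simp [Fin.sum_univ_three] at this
      linear_combination this
    exact (pow_eq_zero_iff two_ne_zero).1 ((mul_eq_zero.1 h).resolve_right hκ0)
  have hφ' : ∀ x, φ x = (p₁ * x.1 + p₂ * x.2, r₁ * x.1 + r₂ * x.2) := fun x => Prod.ext (hp x) (hr x)
  have h10 : p₁ ≠ 0 ∨ r₁ ≠ 0 := by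
    by_contra! h
    have := hinj (1, 0) (by rw [hφ', h.1, h.2]; simp)
    simp at this
  have he : n * yt Fb 1 * n⁻¹ = pp Fa Fb (p₂, r₂) := by
    rw [← pp_snd Fa Fb, hφ, hφ']; simp
  rcases mul_eq_zero.1 hprod with h | h
  · have hr1 := h10.resolve_left (fun hp1 => hp1 h)
    have hp2 : p₂ ≠ 0 := fun h2' => by
      have := hinj (r₂, -r₁) (by rw [hφ', h, h2']; simp; ring)
      simp [hr1] at this
    refine ⟨p₂, hp2, .inr ?_⟩
    rw [he, (mul_eq_zero.1 hprod₂).resolve_left hp2, pp_fst]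
  · have hp1 := h10.resolve_right (fun hr1 => hr1 h)
    have hr2 : r₂ ≠ 0 := fun h2' => by
      have := hinj (p₂, -p₁) (by rw [hφ', h, h2']; simp; ring)
      simp [hp1] at this
    refine ⟨r₂, hr2, .inl ?_⟩
    rw [he, (mul_eq_zero.1 hprod₂).resolve_right hr2, pp_snd]

/-! ### normaliser and centraliser -/

theorem yt_fix (Fb : Frame C b c w) {t : F} (ht : t ≠ 0) {x : ι → F} (hx : yt Fb t x = x) :
    x = C.t (C.prB c x) b := by
  rw [yt, yv_apply Fb.h2] at hx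
  have e1 := congrArg (C.prB w) hx
  simp [C.prB_t, Fb.bw, map_smul, sub_eq_add_neg, ht, Fb.qw] at e1
  rw [e1] at hx
  simp [ht] at hx
  have e2 := congrArg (C.prB c) hx
  simp [C.prB_t, Fb.bc, ht] at e2
  conv_lhs => rw [Fb.dec_perp e1, e2, smul_zero, map_zero, LinearMap.zero_apply, add_zero]

theorem yt_fixes (Fb : Frame C b c w) (t : F) (u : Fin 3 → F) : yt Fb t (C.t u b) = C.t u b :=
  (rad_yv Fb.h2 Fb.bb _).1 u

/-- An element commuting with `yt`. -/
theorem isTen_of_comm (hO : Ovg C K M) (Fb : Frame C b c w) {g : (ι → F) ≃ₗ[F] (ι → F)} (hg : g ∈ M)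
    {t : F} (ht : t ≠ 0) (h : g * yt Fb t = yt Fb t * g) : C.IsTen g :=
  isTen_of_line hO hg Fb.b_ne Fb.bb Fb.b_ne Fb.bb fun u => ⟨_, yt_fix Fb ht (by
    rw [← LinearEquiv.mul_apply, ← h, LinearEquiv.mul_apply, yt_fixes])⟩

/-- An element of `M` normalising `P`. -/
theorem isWr_of_norm (hO : Ovg C K M) (Fa : Frame C.swap a d α) (Fb : Frame C b c w)
    {n : (ι → F) ≃ₗ[F] (ι → F)} (hnM : n ∈ M) (hn : ∀ x, ∃ y, n * pp Fa Fb x * n⁻¹ = pp Fa Fb y) :
    IsWr C n := by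
  obtain ⟨t, ht, h | h⟩ := axes hO.card Fa Fb hn
  · refine .inl (isTen_of_line hO hnM Fb.b_ne Fb.bb Fb.b_ne Fb.bb fun u => ⟨_, yt_fix Fb ht ?_⟩)
    rw [← h]
    show n (yt Fb 1 (n.symm (n (C.t u b)))) = _
    rw [LinearEquiv.symm_apply_apply, yt_fixes]
  · refine .inr (isTenS_of_line hO hnM Fb.b_ne Fb.bb Fa.b_ne Fa.bb fun u =>
      ⟨C.swap.prB d (n (C.t u b)), ?_⟩)
    refine yt_fix Fa ht ?_
    rw [← h]
    show n (yt Fb 1 (n.symm (n (C.t u b)))) = _
    rw [LinearEquiv.symm_apply_apply, yt_fixes]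

theorem fixed_pp (Fa : Frame C.swap a d α) (Fb : Frame C b c w) {x : ι → F}
    (h : ∀ y, pp Fa Fb y x = x) : ∃ r : F, x = r • C.t a b := by
  have e1 := yt_fix Fb (t := 1) one_ne_zero (by rw [← pp_snd Fa Fb]; exact h _)
  have e2 : x = C.t a (C.swap.prB d x) := yt_fix Fa (t := 1) one_ne_zero (by rw [← pp_fst Fa Fb]; exact h _)
  have e3 := congrArg (C.prB c) e2
  rw [C.prB_t] at e3
  exact ⟨_, by conv_lhs => rw [e1, e3, map_smul, LinearMap.smul_apply]⟩

/-- An isometry of odd order fixing the singular vector of a frame. -/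
theorem eq_eA_of_fix (Fb : Frame C b c w) {τ : (Fin 3 → F) ≃ₗ[F] (Fin 3 → F)}
    (hτ : ∀ y z, C.g (τ y) (τ z) = C.g y z) (hb : τ b = b) {N : ℕ} (hN : Odd N) (hp : τ ^ N = 1) :
    ∃ t : F, τ = C.swap.eA (a := b) (x := t • w) Fb.bb (Fb.smul_w t) := by
  have h22 := C.two
  set r := C.g c (τ w)
  set ε := C.g w (τ w) / C.g w w with hε
  have hbw : C.g b (τ w) = 0 := by rw [← hb, hτ, Fb.bw]
  have hw : τ w = r • b + ε • w := by
    conv_lhs => rw [Fb.dec_B (τ w), hbw, zero_smul, add_zero]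
  have hε2 : ε * ε = 1 := by
    have e := hτ w w
    rw [hw] at e
    simp [Fb.bb, Fb.bw, Fb.wb] at e
    exact mul_right_cancel₀ Fb.qw (by linear_combination e)
  have hε1 : ε = 1 := by
    have hpow : ∀ j : ℕ, ∃ s : F, (τ ^ j) w = s • b + ε ^ j • w := fun j => by
      induction j with
      | zero => exact ⟨0, by simp⟩
      | succ j ih =>
        obtain ⟨s, hs⟩ := ih
        exact ⟨s + ε ^ j * r, by
          rw [pow_succ', LinearEquiv.mul_apply, hs, map_add, map_smul, map_smul, hb, hw, pow_succ]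
          module⟩
    obtain ⟨s, hs⟩ := hpow N
    rw [hp, one_app] at hs
    have e := congrArg (C.g w) hs
    simp [Fb.wb, Fb.qw] at e
    rcases mul_self_eq_one_iff.1 hε2 with h | h
    · exact h
    · rw [h, hN.neg_one_pow] at e
      exact absurd (show (2 : F) = 0 by linear_combination -e) h22
  rw [hε1, one_smul] at hw
  set t := r / C.g w w
  set e := C.swap.eA (a := b) (x := t • w) Fb.bb (Fb.smul_w t) with he
  have hv : ∀ z, e z = z + C.g (t • w) z • b - C.g b z • (t • w) -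
      (C.g b z * C.g (t • w) (t • w) / 2) • b := fun z => eA_val (C := C.swap) Fb.h2 Fb.bb _ z
  have heb : e b = b := by rw [hv]; simp [Fb.bb, Fb.wb]
  have hew : e w = τ w := by
    rw [hv, hw]; simp [Fb.bw, t, Fb.qw]; abel
  have heg : ∀ y z, C.g (e y) (e z) = C.g y z := C.swap.eA_iso (a := b) (x := t • w) Fb.bb (Fb.smul_w t)
  have hec : e c = τ c := by
    set δ := τ c - e c with hδ
    have hperp : ∀ z, τ z = e z → C.g δ (e z) = 0 := fun z hz => by
      rw [hδ, map_sub, LinearMap.sub_apply, heg]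
      conv_lhs => rw [← hz, hτ]
      rw [sub_self]
    have db : C.g δ b = 0 := by rw [← heb]; exact hperp b (hb.trans heb.symm)
    have dw : C.g δ (e w) = 0 := hperp w hew.symm
    obtain ⟨s, hs⟩ : ∃ s : F, δ = s • b := by
      refine ⟨C.g c δ, ?_⟩
      have dw' : C.g w δ = 0 := by
        rw [hew, hw, map_add, map_smul, db, smul_zero, zero_add] at dw
        exact C.g_zero_comm dw
      conv_lhs => rw [Fb.dec_B δ, C.g_zero_comm db, dw']
      simp
    have hn : C.g (τ c) (τ c) = C.g (e c) (e c) := by rw [hτ, heg]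
    rw [show τ c = e c + δ by rw [hδ]; abel, hs] at hn
    simp [Fb.bb, show C.g (e c) b = 1 by rw [← heb, heg, Fb.cb],
      show C.g b (e c) = 1 by rw [← heb, heg, Fb.bc]] at hn
    have h0 : s = 0 := (mul_eq_zero.1 (show (2 : F) * s = 0 by linear_combination hn)).resolve_left h22
    rw [h0, zero_smul, hδ, sub_eq_zero] at hs
    exact hs.symm
  refine ⟨t, LinearEquiv.ext fun z => ?_⟩
  rw [← he, Fb.dec_B z, map_add, map_add, map_smul, map_smul, map_smul, map_add, map_add, map_smul,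
    map_smul, map_smul, heb, hew, hec, hb]

/-- A `p`-element of the wreath part normalising `P` lies in `P`. -/
theorem mem_pp_of_norm (hO : Ovg C K M) (Fa : Frame C.swap a d α) (Fb : Frame C b c w)
    {y : (ι → F) ≃ₗ[F] (ι → F)} (hy : y ∈ M) (hn : ∀ x, ∃ z, y * pp Fa Fb x * y⁻¹ = pp Fa Fb z)
    {n : ℕ} (hp : y ^ (ringChar F ^ n) = 1) : ∃ x, y = pp Fa Fb x := by
  haveI : CharP F (ringChar F) := ringChar.charP F
  haveI : Fact (ringChar F).Prime := ⟨CharP.char_is_prime F (ringChar F)⟩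
  haveI : ExpChar F (ringChar F) := ExpChar.prime Fact.out
  set N := ringChar F ^ n with hN
  have hodd : Odd N := by
    refine Odd.pow ((Fact.out : (ringChar F).Prime).odd_of_ne_two fun e => C.two ?_)
    have e' := ringChar.Nat.cast_ringChar (R := F)
    rw [e] at e'
    exact_mod_cast e'
  have hroot : ∀ r : F, r ^ N = 1 → r = 1 := fun r hr =>
    (iterateFrobenius F (ringChar F) n).injective (by
      rw [iterateFrobenius_def, iterateFrobenius_def, one_pow, ← hN, hr])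
  obtain ⟨σ, τ, hst⟩ := eq_ten_of_odd (isWr_of_norm hO Fa Fb hy hn) hodd hp
  have hpw : ∀ (k : ℕ) u z, (y ^ k) (C.t u z) = C.t ((σ ^ k) u) ((τ ^ k) z) := fun k => by
    induction k with
    | zero => intro u z; rfl
    | succ k ih =>
      intro u z
      rw [pow_succ, LinearEquiv.mul_apply, hst, ih]; rfl
  obtain ⟨z₀, hz₀⟩ := exists_aniso (C := C.swap) hO.h2 le_rfl
  have hz₀' : C.g z₀ z₀ ≠ 0 := hz₀
  have hτN0 : (τ ^ N) z₀ ≠ 0 := (LinearEquiv.map_ne_zero_iff _).2 fun h => hz₀' (by rw [h, map_zero])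
  obtain ⟨y₀, hy₀⟩ := C.swap.exists_dual hτN0
  have hy₀' : C.g ((τ ^ N) z₀) y₀ = 1 := hy₀
  obtain ⟨dd, hd⟩ := Finite.injective_iff_surjective.1 (iterateFrobenius F (ringChar F) n).injective
    (C.g z₀ y₀)
  rw [iterateFrobenius_def, ← hN] at hd
  have hscal : ∀ u, (σ ^ N) u = dd ^ N • u := fun u => by
    have e := congrArg (C.prB y₀) (hpw N u z₀)
    rw [hp, one_app, C.prB_t, C.prB_t, hy₀', one_smul] at e
    rw [hd, e]
  have hd0 : dd ≠ 0 := fun h => by
    obtain ⟨a₀, ha₀⟩ := exists_aniso (C := C) hO.h1 le_rfl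
    have := hscal a₀
    rw [h, zero_pow hodd.pos.ne', zero_smul, LinearEquiv.map_eq_zero_iff] at this
    exact ha₀ (by rw [this, map_zero])
  set σ' := σ.trans (LinearEquiv.smulOfNeZero F _ dd⁻¹ (inv_ne_zero hd0)) with hσ'
  set τ' := τ.trans (LinearEquiv.smulOfNeZero F _ dd hd0) with hτ'
  have hσv : ∀ u, σ' u = dd⁻¹ • σ u := fun u => rfl
  have hτv : ∀ u, τ' u = dd • τ u := fun u => rfl
  have hst' : ∀ u z, y (C.t u z) = C.t (σ' u) (τ' z) := fun u z => by
    rw [hst, hσv, hτv, map_smul, map_smul, LinearMap.smul_apply, smul_smul, mul_inv_cancel₀ hd0, one_smul]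
  have hσN : σ' ^ N = 1 := by
    have : ∀ k u, (σ' ^ k) u = dd⁻¹ ^ k • (σ ^ k) u := fun k => by
      induction k with
      | zero => intro u; simp
      | succ k ih =>
        intro u
        rw [pow_succ, LinearEquiv.mul_apply, ih, hσv, map_smul, smul_smul, pow_succ σ,
          LinearEquiv.mul_apply, pow_succ]
    refine LinearEquiv.ext fun u => ?_
    rw [this, hscal, smul_smul, ← mul_pow, inv_mul_cancel₀ hd0, one_pow, one_smul]; rfl
  obtain ⟨a₀, ha₀⟩ := exists_aniso (C := C) hO.h1 le_rfl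
  have hyI := hO.isoM hy
  have he : ∀ u v z z', C.f (σ' u) (σ' v) * C.g (τ' z) (τ' z') = C.f u v * C.g z z' := fun u v z z' => by
    rw [← C.pol, ← hst', ← hst', hyI, C.pol]
  have hθ : C.g (τ' w) (τ' w) ≠ 0 := fun e => by
    have := he a₀ a₀ w w
    rw [e, mul_zero] at this
    exact mul_ne_zero ha₀ Fb.qw this.symm
  set μ := C.g w w / C.g (τ' w) (τ' w) with hμ
  have hμf : ∀ u v, C.f (σ' u) (σ' v) = μ * C.f u v := fun u v => by
    rw [hμ]; field_simp; linear_combination he u v w w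
  have hμN : μ ^ N = 1 := by
    have hk : ∀ k : ℕ, C.f ((σ' ^ k) a₀) ((σ' ^ k) a₀) = μ ^ k * C.f a₀ a₀ := fun k => by
      induction k with
      | zero => simp
      | succ k ih => rw [pow_succ', LinearEquiv.mul_apply, hμf, ih, pow_succ']; ring
    have h := hk N
    rw [hσN, one_app, right_eq_mul₀ ha₀] at h
    exact h
  have hσi : ∀ u v, C.f (σ' u) (σ' v) = C.f u v := fun u v => by rw [hμf, hroot μ hμN, one_mul]
  have hτi : ∀ z z', C.g (τ' z) (τ' z') = C.g z z' := fun z z' =>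
    mul_left_cancel₀ ha₀ (by rw [← he a₀ a₀ z z', hσi])
  have hτN : τ' ^ N = 1 := by
    have hk : ∀ (k : ℕ) u z, (y ^ k) (C.t u z) = C.t ((σ' ^ k) u) ((τ' ^ k) z) := fun k => by
      induction k with
      | zero => intro u z; rfl
      | succ k ih => intro u z; rw [pow_succ, LinearEquiv.mul_apply, hst', ih]; rfl
    refine LinearEquiv.ext fun z => C.t_inj_left (a := a) Fa.b_ne ?_
    have e := hk N a z
    rw [hp, hσN] at e
    exact e.symm
  -- the common fixed line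
  obtain ⟨r, hr⟩ := fixed_pp Fa Fb (x := y (C.t a b)) fun x => by
    obtain ⟨z, hz⟩ := hn 0
    have key : ∀ x, y⁻¹ * pp Fa Fb x * y ∈ Set.range (pp Fa Fb) := fun x => by
      haveI : Finite (F × F) := inferInstance
      choose φ hφ using hn
      have hinj : Function.Injective φ := fun u v e => pp_inj Fa Fb (by
        have := (hφ u).trans ((congrArg (pp Fa Fb) e).trans (hφ v).symm)
        exact mul_left_cancel (mul_right_cancel this))
      obtain ⟨u, rfl⟩ := Finite.injective_iff_surjective.1 hinj x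
      exact ⟨u, by rw [← hφ]; group⟩
    obtain ⟨u, hu⟩ := key x
    have e : pp Fa Fb u (C.t a b) = C.t a b := by
      rw [pp, LinearEquiv.mul_apply, yt_fixes]
      exact yt_fixes Fa u.1 b
    rw [hu] at e
    have := congrArg y e
    rw [LinearEquiv.mul_apply, LinearEquiv.mul_apply] at this
    exact (y.apply_symm_apply _).symm.trans this
  rw [hst'] at hr
  obtain ⟨y₁, hy₁⟩ := C.swap.exists_dual ((LinearEquiv.map_ne_zero_iff τ').2 Fb.b_ne)
  have hy₁' : C.g (τ' b) y₁ = 1 := hy₁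
  obtain ⟨x₁, hx₁⟩ := C.exists_dual ((LinearEquiv.map_ne_zero_iff σ').2 Fa.b_ne)
  have ea : σ' a = (r * C.g b y₁) • a := by
    have e := congrArg (C.prB y₁) hr
    rwa [C.prB_t, hy₁', one_smul, map_smul, C.prB_t, smul_smul] at e
  have eb : τ' b = (r * C.f a x₁) • b := by
    have e := congrArg (C.prA x₁) hr
    rwa [C.prA_t, hx₁, one_smul, map_smul, C.prA_t, smul_smul] at e
  have hone : ∀ (ρ : (Fin 3 → F) ≃ₗ[F] (Fin 3 → F)) (v : Fin 3 → F) (k : F), v ≠ 0 → ρ ^ N = 1 →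
      ρ v = k • v → ρ v = v := fun ρ v k hv hρ e => by
    have hk : ∀ j : ℕ, (ρ ^ j) v = k ^ j • v := fun j => by
      induction j with
      | zero => simp
      | succ j ih => rw [pow_succ', LinearEquiv.mul_apply, ih, map_smul, e, smul_smul, pow_succ]
    have := hk N
    rw [hρ, one_app] at this
    rw [e, hroot k ?_, one_smul]
    by_contra hne
    have h2 : (k ^ N - 1) • v = 0 := by rw [sub_smul, one_smul, ← this, sub_self]
    exact hv ((smul_eq_zero.1 h2).resolve_left (sub_ne_zero.2 hne))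
  obtain ⟨s, hs⟩ := eq_eA_of_fix (C := C.swap) Fa hσi (hone σ' a _ Fa.b_ne hσN ea) hodd hσN
  obtain ⟨t, ht⟩ := eq_eA_of_fix (C := C) Fb hτi (hone τ' b _ Fb.b_ne hτN eb) hodd hτN
  refine ⟨(s, t), ?_⟩
  rw [C.eq_te hst', hs, ht, pp_te]
  rfl

/-! ### fusion -/

/-- `P` as a subgroup of `M`. -/
noncomputable def ppSub (hO : Ovg C K M) (Fa : Frame C.swap a d α) (Fb : Frame C b c w) : Subgroup M where
  carrier := {m | ∃ x, (m : (ι → F) ≃ₗ[F] (ι → F)) = pp Fa Fb x}
  one_mem' := ⟨0, (pp_zero Fa Fb).symm⟩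
  mul_mem' := by
    rintro m m' ⟨x, hx⟩ ⟨y, hy⟩
    exact ⟨x + y, by rw [Subgroup.coe_mul, hx, hy, pp_add]⟩
  inv_mem' := by
    rintro m ⟨x, hx⟩
    exact ⟨-x, by rw [Subgroup.coe_inv, hx, inv_eq_of_mul_eq_one_right (by
      rw [pp_add, add_neg_cancel, pp_zero])]⟩

/-- Conjugates in the wreath part of the elements `yt`. -/
theorem isWr_of_conj (hO : Ovg C K M) (Fa : Frame C.swap a d α) (Fb : Frame C b c w)
    {g : (ι → F) ≃ₗ[F] (ι → F)} (hg : g ∈ M) {t : F} (ht : t ≠ 0)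
    (h : IsWr C (g⁻¹ * yt Fb t * g)) : IsWr C g := by
  classical
  haveI : Finite ((ι → F) ≃ₗ[F] (ι → F)) := Finite.of_injective _ DFunLike.coe_injective
  haveI : CharP F (ringChar F) := ringChar.charP F
  haveI : Fact (ringChar F).Prime := ⟨CharP.char_is_prime F (ringChar F)⟩
  set p := ringChar F
  set P := ppSub hO Fa Fb with hP
  have hPp : IsPGroup p P := fun m => ⟨1, by
    obtain ⟨x, hx⟩ := m.2
    refine Subtype.ext (Subtype.ext ?_)
    show (m.1 : (ι → F) ≃ₗ[F] (ι → F)) ^ p ^ 1 = 1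
    rw [pow_one, hx, pp_pow, show p • x = 0 from Prod.ext
      (by simp [nsmul_eq_mul, CharP.cast_eq_zero]) (by simp [nsmul_eq_mul, CharP.cast_eq_zero]),
      pp_zero]⟩
  have hnorm : ∀ y : M, y ∈ Subgroup.normalizer (P : Set M) →
      ∀ x, ∃ z, (y : (ι → F) ≃ₗ[F] (ι → F)) * pp Fa Fb x * (y : (ι → F) ≃ₗ[F] (ι → F))⁻¹ = pp Fa Fb z :=
    fun y hy x => (Subgroup.mem_normalizer_iff.1 hy ⟨_, pp_mem hO Fa Fb x⟩).1 ⟨x, rfl⟩
  obtain ⟨S, hPS⟩ := hPp.exists_le_sylow
  have hS : (S : Subgroup M) = P := by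
    refine le_antisymm ?_ hPS
    by_contra hne
    haveI := S.2.isNilpotent
    have hlt : P.subgroupOf S < ⊤ := lt_of_le_of_ne le_top fun e => hne fun y hy =>
      Subgroup.mem_subgroupOf.1 (e ▸ Subgroup.mem_top (⟨y, hy⟩ : (S : Subgroup M)))
    obtain ⟨y, hy, hyn⟩ := SetLike.exists_of_lt (Group.normalizerCondition_of_isNilpotent _ hlt)
    refine hyn (Subgroup.mem_subgroupOf.2 ?_)
    have hyN : (y : M) ∈ Subgroup.normalizer (P : Set M) := Subgroup.mem_normalizer_iff.2 fun m => by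
      constructor
      · intro hm
        exact (Subgroup.mem_normalizer_iff.1 hy ⟨m, hPS hm⟩).1 hm
      · intro hm
        have hmS : m ∈ (S : Subgroup M) := by
          have := mul_mem (mul_mem (inv_mem y.2) (hPS hm)) y.2
          simpa [mul_assoc] using this
        exact (Subgroup.mem_normalizer_iff.1 hy ⟨m, hmS⟩).2 hm
    obtain ⟨k, hk⟩ := S.2 y
    exact mem_pp_of_norm hO Fa Fb y.1.2 (hnorm _ hyN) (n := k) (congrArg (fun m => (m.1.1)) hk)
  have hPH : P ≤ wrSub C M := fun m ⟨x, hx⟩ => by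
    show IsWr C _
    rw [hx]; exact .inl (isTen_pp Fa Fb x)
  set yM : M := ⟨yt Fb t, yt_mem hO Fb t⟩ with hyM
  set gM : M := ⟨g, hg⟩
  have hyP : yM ∈ P := ⟨(0, t), (pp_snd Fa Fb t).symm⟩
  -- into `P` inside the wreath part
  set z : wrSub C M := ⟨gM⁻¹ * yM * gM, h⟩ with hz
  have hzp : IsPGroup p (Subgroup.zpowers z) := by
    have hz1 : z ^ p ^ 1 = 1 := by
      obtain ⟨j, hj⟩ := hPp ⟨yM, hyP⟩
      have hy1 : yM ^ p ^ 1 = 1 := by
        refine Subtype.ext ?_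
        show (yt Fb t) ^ p ^ 1 = 1
        rw [pow_one, ← pp_snd Fa Fb, pp_pow, show p • ((0 : F), t) = 0 from Prod.ext
          (by simp) (by simp [nsmul_eq_mul, CharP.cast_eq_zero]), pp_zero]
      refine Subtype.ext ?_
      show (gM⁻¹ * yM * gM) ^ p ^ 1 = 1
      rw [show gM⁻¹ * yM * gM = gM⁻¹ * yM * gM⁻¹⁻¹ by rw [inv_inv], conj_pow, hy1, mul_one,
        mul_inv_cancel]
    rintro ⟨v, i, rfl⟩
    refine ⟨1, Subtype.ext ?_⟩
    show (z ^ i) ^ p ^ 1 = 1
    rw [← zpow_natCast, zpow_comm, zpow_natCast, hz1, one_zpow]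
  obtain ⟨Q, hQ⟩ := hzp.exists_le_sylow
  set S' : Sylow p (wrSub C M) := S.subtype (by rw [hS]; exact hPH)
  obtain ⟨e, he⟩ := MulAction.exists_smul_eq (wrSub C M) S' Q
  have hmem := hQ (Subgroup.mem_zpowers z)
  rw [← he] at hmem
  change _ ∈ MulAut.conj e • (S' : Subgroup (wrSub C M)) at hmem
  rw [Subgroup.mem_pointwise_smul_iff_inv_smul_mem] at hmem
  change (e.1⁻¹ * (gM⁻¹ * yM * gM) * (e.1⁻¹)⁻¹) ∈ (S : Subgroup M) at hmem
  rw [hS] at hmem
  set k := gM * e.1 with hk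
  set y' := k⁻¹ * yM * k with hy'
  have hy'P : y' ∈ P := by
    rw [hy', hk]; convert hmem using 1; group
  -- two Sylow subgroups of the centraliser
  set Z := Subgroup.centralizer ({yM} : Set M) with hZ
  have habel : ∀ u ∈ P, ∀ v ∈ P, u * v = v * u := by
    rintro u ⟨x, hx⟩ v ⟨y, hy⟩
    exact Subtype.ext (by rw [Subgroup.coe_mul, Subgroup.coe_mul, hx, hy, pp_add, pp_add, add_comm])
  have h1 : (S : Subgroup M) ≤ Z := fun u hu => Subgroup.mem_centralizer_singleton_iff.2 (by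
    rw [hS] at hu; exact habel u hu yM hyP)
  have h2 : ((k • S : Sylow p M) : Subgroup M) ≤ Z := by
    intro u hu
    change u ∈ MulAut.conj k • (S : Subgroup M) at hu
    rw [Subgroup.mem_pointwise_smul_iff_inv_smul_mem, hS] at hu
    change k⁻¹ * u * (k⁻¹)⁻¹ ∈ P at hu
    refine Subgroup.mem_centralizer_singleton_iff.2 ?_
    have e' := habel _ hu _ hy'P
    rw [hy', inv_inv] at e'
    have : k⁻¹ * (u * yM) * k = k⁻¹ * (yM * u) * k := by
      calc k⁻¹ * (u * yM) * k = k⁻¹ * u * k * (k⁻¹ * yM * k) := by group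
        _ = k⁻¹ * yM * k * (k⁻¹ * u * k) := e'
        _ = k⁻¹ * (yM * u) * k := by group
    exact mul_left_cancel (mul_right_cancel this)
  obtain ⟨cc, hcc⟩ := MulAction.exists_smul_eq Z ((k • S).subtype h2) (S.subtype h1)
  have hkS : (cc.1 * k) • S = S := by
    refine Sylow.subtype_injective (N := Z) (hP := ?_) (hQ := h1) ?_
    · intro u hu
      change u ∈ MulAut.conj (cc.1 * k) • (S : Subgroup M) at hu
      rw [map_mul, mul_smul, Subgroup.mem_pointwise_smul_iff_inv_smul_mem] at hu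
      have h3 := h2 (show (MulAut.conj cc.1)⁻¹ • u ∈ ((k • S : Sylow p M) : Subgroup M) from hu)
      change cc.1⁻¹ * u * (cc.1⁻¹)⁻¹ ∈ Z at h3
      rw [inv_inv] at h3
      have := mul_mem (mul_mem cc.2 h3) (inv_mem cc.2)
      simpa [mul_assoc] using this
    · rw [← hcc]
      exact Sylow.ext (by
        ext u
        simp only [Sylow.coe_subtype, Sylow.coe_subgroup_smul, Subgroup.mem_subgroupOf,
          Subgroup.mem_pointwise_smul_iff_inv_smul_mem, map_mul, mul_inv_rev, mul_smul]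
        rfl)
  have hnk : cc.1 * k ∈ Subgroup.normalizer (P : Set M) := by
    have := Sylow.smul_eq_iff_mem_normalizer.1 hkS
    rw [← hS]
    exact this
  have hw1 : IsWr C ((cc.1 * k : M) : (ι → F) ≃ₗ[F] (ι → F)) :=
    isWr_of_norm hO Fa Fb (cc.1 * k).2 (hnorm _ hnk)
  have hw2 : IsWr C (cc.1 : (ι → F) ≃ₗ[F] (ι → F)) := .inl (isTen_of_comm hO Fb cc.1.2 ht (by
    exact congrArg Subtype.val (Subgroup.mem_centralizer_singleton_iff.1 cc.2)))
  have hke : IsWr C (k : (ι → F) ≃ₗ[F] (ι → F)) := by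
    have := hw2.inv.mul hw1
    rwa [Subgroup.coe_mul, inv_mul_cancel_left] at this
  have := hke.mul (mem_wrSub.1 e.2).inv
  rwa [hk, Subgroup.coe_mul, mul_inv_cancel_right] at this

end Cfsg.Agent.TenForm.ThreeThree
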