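import Cfsg.Agent.Lib.C4.ThreeThree.Frame

/-!
# `A ⊗ B`, `dim A = dim B = 3`: the radical of a ruling meets an overgroup in the tensor part

* `eq_one_of_level2`, `comm_of_rad`, `lm_self`, `bracket`
* `lm_scalar`, `rad_eq_yv`
* `isTen_of_line` : an element of `M` carrying `A ⊗ b` onto `A ⊗ b'` is a tensor element
* `isTenS_of_line` : one carrying `A ⊗ b` onto `a ⊗ B` exchanges the factors
-/

set_option autoImplicit false
set_option linter.unusedSectionVars false
set_option linter.unusedSimpArgs false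

namespace Cfsg.Agent.TenForm.ThreeThree

open Module
open Cfsg.Agent.TenForm TT

variable {ι : Type} [Fintype ι] [DecidableEq ι] {F : Type*} [Field F] [Fintype F]
variable {C : TT ι F 3 3} {K M : Subgroup ((ι → F) ≃ₗ[F] (ι → F))}
variable {b c w : Fin 3 → F} {m m' : (ι → F) ≃ₗ[F] (ι → F)}

theorem eq_one_of_level2 (hO : Ovg C K M) (Fr : Frame C b c w) (hm : m ∈ M)
    (hfix : ∀ x, C.prB b x = 0 → m x = x) : m = 1 := by
  classical
  have hi := hO.isoM hm
  have hperp : ∀ (a : Fin 3 → F) {w : Fin 3 → F}, C.g b w = 0 → C.prB b (C.t a w) = 0 := fun a w hw => by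
    rw [C.prB_t, gcomm Fr.h2, hw, zero_smul]
  set N : (Fin 3 → F) →ₗ[F] (Fin 3 → F) :=
    (C.prB c).comp ((m.toLinearMap - LinearMap.id).comp (C.t.flip c)) with hN
  have hNa : ∀ a, N a = C.prB c (m (C.t a c) - C.t a c) := fun a => rfl
  have hXy : ∀ a y, C.g b y = 0 → C.prB y (m (C.t a c) - C.t a c) = 0 := fun a y hy => C.f_ext fun a' => by
    rw [C.f_prB, map_sub, LinearMap.sub_apply, map_zero, LinearMap.zero_apply]
    nth_rewrite 1 [← hfix _ (hperp a' hy)]
    rw [hi, sub_self]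
  have hX : ∀ a, m (C.t a c) = C.t a c + C.t (N a) b := fun a => by
    have e := Fr.dec_V (m (C.t a c) - C.t a c)
    rw [hXy a b Fr.bb, hXy a w Fr.bw] at e
    simp only [smul_zero, map_zero, LinearMap.zero_apply, add_zero] at e
    rw [hNa, ← e, add_sub_cancel]
  have hmx : ∀ x, m x = x + C.tm N (C.swap.sm b b) x := fun x =>
    LinearMap.congr_fun (C.ext_pure (L := m.toLinearMap)
      (L' := LinearMap.id + C.tm N (C.swap.sm b b)) fun a z => by
      have hz : C.t a z = C.t a (z - C.g b z • c) + C.g b z • C.t a c := by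
        rw [map_sub, map_smul]; abel
      show m (C.t a z) = C.t a z + C.tm N (C.swap.sm b b) (C.t a z)
      rw [C.tm_t, sm_apply, show C.swap.f b z = C.g b z from rfl]
      conv_lhs => rw [hz, map_add, map_smul, hfix _ (hperp a (by simp [Fr.bc])), hX]
      rw [map_smul, smul_add, ← add_assoc, ← hz]) x
  have hsk : C.SkewA N := fun a a' => by
    have e := hi (C.t a c) (C.t a' c)
    rw [hX, hX] at e
    simp [C.pol, Fr.bb, Fr.cc, Fr.bc, Fr.cb] at e
    linear_combination e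
  suffices hN0 : N = 0 by
    refine LinearEquiv.ext fun x => ?_
    rw [hmx, hN0, C.tm_zero, LinearMap.zero_apply, add_zero]; rfl
  by_contra hN0
  set K₀ := C.swap.sm b b with hK₀
  have hK : ∀ z, K₀ (K₀ z) = 0 := fun z => by simp [hK₀, sm_apply, show C.swap.f b b = 0 from Fr.bb]
  have hS := estable_right (C := C.swap) hO.left hK
  have hNS : N ∈ C.swap.kset M K₀ hK C.swap.skewB := ⟨hsk, by rw [tm_swap]; exact ⟨m, hm, hmx⟩⟩
  obtain ⟨a, γ, ha, haγ, ha0, hγ, hmem⟩ := exists_dop_of_skew (C := C) hO.h1 le_rfl hS hNS hsk hN0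
  have hall := dop_full (C := C) hO.h1 le_rfl (.inr (no_plane hO.h1 le_rfl)) hS ha0 ha haγ hγ hmem
  have hone : ∀ x x', C.swap.RE M (C.swap.t b x) (C.swap.t b x') := fun x x' => by
    show C.RE M (C.t x b) (C.t x' b)
    refine re_of_inM hO.h1 hO.h2 (by rw [C.pol, Fr.bb, mul_zero]) (by rw [C.pol, Fr.bb, mul_zero])
      (by rw [C.pol, Fr.bb, mul_zero]) ?_
    rw [← tm_dop' hO.h1]
    have := (hall x' x).2
    rwa [tm_swap] at this
  have h0 := re0_of_one (C := C.swap) hO.hiso hO.right hO.h2 (by norm_num) Fr.b_ne Fr.bb hone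
  exact hO.proper fun g hg =>
    omega_le_of_re0 (C := C.swap) hO.hiso hO.h2 hO.h1 (by norm_num) le_rfl h0 hg

theorem comm_of_rad (hO : Ovg C K M) (Fr : Frame C b c w) (hm : m ∈ M) (hm' : m' ∈ M)
    (h : Rad3 C b m) (h' : Rad3 C b m') : m * m' = m' * m := by
  have hu := eq_one_of_level2 hO Fr (m := (m * m') * (m' * m)⁻¹)
    (mul_mem (mul_mem hm hm') (inv_mem (mul_mem hm' hm))) fun x hx => by
    obtain ⟨a, ha⟩ := (h'.mul h).inv.2 x hx
    have hy : C.prB b ((m' * m)⁻¹ x) = 0 := by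
      rw [prB_map (hO.isoM (inv_mem (mul_mem hm' hm))) (h'.mul h).inv.1, hx]
    rw [LinearEquiv.mul_apply, LinearEquiv.mul_apply, h.comm_on h' hy]
    exact (m' * m).apply_symm_apply x
  rwa [mul_inv_eq_one] at hu

theorem prB_lm (Fr : Frame C b c w) (hi : C.Iso m) (h : Rad3 C b m) {w : Fin 3 → F}
    (hbw : C.g b w = 0) (a a' : Fin 3 → F) :
    C.f (C.prB w (m (C.t a c) - C.t a c)) a' = -C.f a (LM C c m w a') := by
  have hXb : C.p (m (C.t a c) - C.t a c) (C.t (LM C c m w a') b) = 0 := by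
    rw [map_sub, LinearMap.sub_apply]
    nth_rewrite 1 [← h.1 (LM C c m w a')]
    rw [hi, sub_self]
  have e := hi (C.t a c) (C.t a' w)
  rw [lm_spec Fr.h2 Fr.bc h hbw, map_add] at e
  rw [map_sub, LinearMap.sub_apply, C.pol a c (LM C c m w a') b, Fr.cb, mul_one] at hXb
  rw [C.f_prB, map_sub, LinearMap.sub_apply]
  linear_combination e - hXb

/-- Members of the radical in `M` act by self-adjoint operators. -/
theorem lm_self (hO : Ovg C K M) (Fr : Frame C b c w) (hm : m ∈ M) (h : Rad3 C b m)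
    {v : Fin 3 → F} (hbv : C.g b v = 0) (hcv : C.g c v = 0) :
    (∀ a, C.prB v (m (C.t a c) - C.t a c) = -LM C c m v a) ∧ C.SelfA (LM C c m v) := by
  have hc := comm_of_rad hO Fr hm (yv_mem hO Fr.bb hbv) h (rad_yv Fr.h2 Fr.bb hbv)
  have hval : ∀ a, C.prB v (m (C.t a c) - C.t a c) = -LM C c m v a := fun a => by
    have e := LinearEquiv.congr_fun hc (C.t a c)
    rw [LinearEquiv.mul_apply, LinearEquiv.mul_apply, yv_apply Fr.h2 Fr.bb hbv,
      yv_apply Fr.h2 Fr.bb hbv, prB_map (hO.isoM hm) h.1] at e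
    rw [show C.prB v (m (C.t a c) - C.t a c) = C.prB v (m (C.t a c)) - C.prB v (C.t a c) from map_sub _ _ _]
    have hva : C.prB v (C.t a c) = 0 := by rw [C.prB_t, hcv, zero_smul]
    have hba : C.prB b (C.t a c) = a := by rw [C.prB_t, Fr.cb, one_smul]
    rw [hva, hba, map_zero, LinearMap.zero_apply, add_zero, map_sub, map_sub,
      lm_spec Fr.h2 Fr.bc h hbv, h.1] at e
    rw [hva, sub_zero]
    have e' : C.t (C.prB v (m (C.t a c))) b = C.t (-LM C c m v a) b := by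
      rw [map_neg, LinearMap.neg_apply]
      linear_combination (norm := module) (-1 : F) • e
    exact C.t_inj Fr.b_ne e'
  refine ⟨hval, fun a a' => ?_⟩
  have e := prB_lm Fr (hO.isoM hm) h hbv a a'
  rw [hval, map_neg, LinearMap.neg_apply] at e
  exact neg_injective e

/-- The operators of two members of the radical commute. -/
theorem bracket (hO : Ovg C K M) (Fr : Frame C b c w) (hm : m ∈ M) (hm' : m' ∈ M)
    (h : Rad3 C b m) (h' : Rad3 C b m') (a : Fin 3 → F) :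
    LM C c m w (LM C c m' w a) - LM C c m' w (LM C c m w a) = 0 := by
  have key : ∀ {n n' : (ι → F) ≃ₗ[F] (ι → F)}, n ∈ M → n' ∈ M → Rad3 C b n → Rad3 C b n' →
      n (n' (C.t a c)) = C.t a c + (n (C.t a c) - C.t a c) + (n' (C.t a c) - C.t a c) -
        C.t ((C.g w w)⁻¹ • LM C c n w (LM C c n' w a)) b := by
    intro n n' hn hn' hr hr'
    set X := n' (C.t a c) - C.t a c with hX
    have hXb : C.prB b X = 0 := by rw [hX, map_sub, prB_map (hO.isoM hn') hr'.1, sub_self]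
    have eX := Fr.dec_perp hXb
    rw [(lm_self hO Fr hn' hr' Fr.bw Fr.cw).1] at eX
    have hnX : n X = X - C.t ((C.g w w)⁻¹ • LM C c n w (LM C c n' w a)) b := by
      conv_lhs => rw [eX, map_add n, hr.1, lm_spec Fr.h2 Fr.bc hr Fr.bw]
      conv_rhs => rw [eX]
      simp only [map_neg, map_smul, smul_neg, map_add, LinearMap.add_apply, LinearMap.neg_apply,
        LinearMap.smul_apply]
      abel
    rw [show n' (C.t a c) = C.t a c + X by rw [hX]; abel, map_add, hnX]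
    abel
  have e := LinearEquiv.congr_fun (comm_of_rad hO Fr hm hm' h h') (C.t a c)
  rw [LinearEquiv.mul_apply, LinearEquiv.mul_apply, key hm hm' h h', key hm' hm h' h] at e
  refine (smul_eq_zero.1 (C.t_inj Fr.b_ne (a := (C.g w w)⁻¹ • (LM C c m w (LM C c m' w a) -
    LM C c m' w (LM C c m w a))) (a' := 0) ?_)).resolve_left (inv_ne_zero Fr.qw)
  simp only [map_add, map_sub, map_smul, smul_sub, LinearMap.add_apply, LinearMap.sub_apply,
    LinearMap.smul_apply, map_zero, LinearMap.zero_apply] at e ⊢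
  linear_combination (norm := module) (-1 : F) • e

/-! ### the operators are scalar -/

theorem rad_te (h : Rad3 C b m) (σ : (Fin 3 → F) ≃ₗ[F] (Fin 3 → F)) :
    Rad3 C b (C.te σ (LinearEquiv.refl F _) * m * (C.te σ (LinearEquiv.refl F _))⁻¹) := by
  have hpr : ∀ x, C.prB b ((C.te σ (LinearEquiv.refl F _)).symm x) = σ.symm (C.prB b x) := fun x => by
    rw [te_symm, te_apply, show (LinearEquiv.refl F (Fin 3 → F)).symm.toLinearMap = LinearMap.id from rfl,
      C.prB_tm]; rfl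
  refine ⟨fun a => ?_, fun x hx => ?_⟩
  · show C.te σ _ (m ((C.te σ _).symm (C.t a b))) = _
    rw [te_symm, C.te_t, show (LinearEquiv.refl F (Fin 3 → F)).symm b = b from rfl, h.1, C.te_t]
    simp
  · obtain ⟨a, ha⟩ := h.2 ((C.te σ (LinearEquiv.refl F _)).symm x) (by rw [hpr, hx, map_zero])
    refine ⟨σ a, ?_⟩
    show C.te σ _ (m ((C.te σ _).symm x)) = _
    rw [ha, map_add, LinearEquiv.apply_symm_apply, C.te_t]; rfl

theorem lm_te (Fr : Frame C b c w) (h : Rad3 C b m) (σ : (Fin 3 → F) ≃ₗ[F] (Fin 3 → F))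
    {w : Fin 3 → F} (hw : C.g b w = 0) :
    LM C c (C.te σ (LinearEquiv.refl F _) * m * (C.te σ (LinearEquiv.refl F _))⁻¹) w =
      cjA σ (LM C c m w) :=
  LinearMap.ext fun a => C.t_inj Fr.b_ne (by
    have e := lm_spec Fr.h2 Fr.bc (rad_te h σ) hw a
    have e' : (C.te σ (LinearEquiv.refl F _) * m * (C.te σ (LinearEquiv.refl F _))⁻¹) (C.t a w) =
        C.t a w + C.t (cjA σ (LM C c m w) a) b := by
      show C.te σ _ (m ((C.te σ _).symm (C.t a w))) = _
      rw [te_symm, C.te_t, show (LinearEquiv.refl F (Fin 3 → F)).symm w = w from rfl,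
        lm_spec Fr.h2 Fr.bc h hw, map_add, C.te_t, C.te_t]
      simp [cjA_apply]
    exact add_left_cancel (e.symm.trans e'))

theorem te_left_mem (hO : Ovg C K M) {a x : Fin 3 → F} (ha : C.f a a = 0) (hx : C.f a x = 0) :
    C.te (C.eA ha hx).symm (LinearEquiv.refl F _) ∈ M := by
  have := inv_mem (hO.left a x ha hx)
  rwa [show (C.te (C.eA ha hx) (LinearEquiv.refl F _))⁻¹ =
    C.te (C.eA ha hx).symm (LinearEquiv.refl F _) from te_symm _ _] at this

/-- The operators at `w` of the radical elements of `M`. -/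
noncomputable def lset (hO : Ovg C K M) (Fr : Frame C b c w) :
    AddSubgroup ((Fin 3 → F) →ₗ[F] (Fin 3 → F)) where
  carrier := {L | ∃ m ∈ M, Rad3 C b m ∧ LM C c m w = L}
  zero_mem' := by
    have h0 : C.g b 0 = 0 := map_zero _
    exact ⟨1, one_mem M, by rw [← yv_zero hO.h2 Fr.bb h0]; exact rad_yv hO.h2 Fr.bb h0, lm_one w⟩
  add_mem' := by
    rintro _ _ ⟨m, hm, h, rfl⟩ ⟨m', hm', h', rfl⟩
    exact ⟨m * m', mul_mem hm hm', h.mul h', lm_mul hO.h2 Fr.bc h h' Fr.bw⟩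
  neg_mem' := by
    rintro _ ⟨m, hm, h, rfl⟩
    exact ⟨m⁻¹, inv_mem hm, h.inv, lm_inv hO.h2 Fr.bc h Fr.bw⟩

/-- A non-scalar operator leads to `κ · sm a a`. -/
theorem exists_sm_lset (hO : Ovg C K M) (Fr : Frame C b c w)
    {m : (ι → F) ≃ₗ[F] (ι → F)} (hm : m ∈ M) (h : Rad3 C b m)
    (hne : ∀ r : F, LM C c m w ≠ r • LinearMap.id) :
    ∃ a, ∃ κ : F, a ≠ 0 ∧ C.f a a = 0 ∧ κ ≠ 0 ∧
      ∃ m' ∈ M, Rad3 C b m' ∧ LM C c m' w = κ • C.sm a a := by
  refine exists_sm_of_self (C := C) hO.h1 le_rfl (.inr hO.q3) (S := lset hO Fr)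
    ?_ ?_ ?_ (K₀ := LM C c m w) ⟨m, hm, h, rfl⟩ hne
  · rintro a x ha hx _ ⟨n, hn, hr, rfl⟩
    exact ⟨⟨_, mul_mem (mul_mem (hO.left a x ha hx) hn) (inv_mem (hO.left a x ha hx)), rad_te hr _,
        lm_te Fr hr _ Fr.bw⟩,
      ⟨_, mul_mem (mul_mem (te_left_mem hO ha hx) hn) (inv_mem (te_left_mem hO ha hx)), rad_te hr _,
        lm_te Fr hr _ Fr.bw⟩⟩
  · rintro _ ⟨n, hn, hr, rfl⟩
    exact (lm_self hO Fr hn hr Fr.bw Fr.cw).2
  · intro r
    have hv : C.g b ((r / C.g w w) • w) = 0 := Fr.smul_w _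
    refine ⟨_, yv_mem hO Fr.bb hv, rad_yv hO.h2 Fr.bb hv, ?_⟩
    rw [lm_yv hO.h2 Fr.bb Fr.bc hv Fr.bw, map_smul, LinearMap.smul_apply, smul_eq_mul,
      div_mul_cancel₀ _ Fr.qw]

theorem comm_sm_ne (h1 : C.s₁ = 1) {a a' : Fin 3 → F} (ha : C.f a a = 0) (h : C.f a a' ≠ 0) :
    C.sm a a (C.sm a' a' a) - C.sm a' a' (C.sm a a a) ≠ 0 := by
  simp only [sm_apply, ha, zero_smul, map_zero, sub_zero, map_smul, smul_smul, f_comm h1 a' a]
  exact smul_ne_zero (mul_ne_zero h h) fun e => h (by rw [e, map_zero, LinearMap.zero_apply])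

/-- A conjugate of a radical element moving the singular vector. -/
theorem exists_conj (hO : Ovg C K M) (Fr : Frame C b c w) (hm : m ∈ M) (h : Rad3 C b m)
    {a : Fin 3 → F} (ha0 : a ≠ 0) (ha : C.f a a = 0) :
    ∃ (a' : Fin 3 → F) (σ : (Fin 3 → F) ≃ₗ[F] (Fin 3 → F)), C.f a a' ≠ 0 ∧ σ a = a' ∧
      (∀ u v, C.f (σ u) (σ v) = C.f u v) ∧
      ∃ m' ∈ M, Rad3 C b m' ∧ ∀ v, C.g b v = 0 → LM C c m' v = cjA σ (LM C c m v) := by
  obtain ⟨d, hd, had⟩ := partner hO.h1 ha0 ha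
  obtain ⟨σ, r, hr, hσ, e⟩ := exists_move_right (C := C.swap) hO.left hO.h1 le_rfl ha hd
    (show C.swap.g a d ≠ 0 by rw [show C.swap.g a d = C.f a d from rfl, had]; exact one_ne_zero)
  rw [te_swap] at hσ
  refine ⟨_, σ, by rw [e, map_smul, had, smul_eq_mul, mul_one]; exact hr, rfl, fun u v => ?_, _,
    mul_mem (mul_mem hσ hm) (inv_mem hσ), rad_te h σ, fun w hw => lm_te Fr h σ hw⟩
  have := hO.isoM hσ (C.t u w) (C.t v w)
  rw [C.te_t, C.te_t, C.pol, C.pol] at this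
  exact mul_right_cancel₀ Fr.qw this

/-- The operators at `w` are scalar. -/
theorem lm_scalar (hO : Ovg C K M) (Fr : Frame C b c w) (hm : m ∈ M) (h : Rad3 C b m) :
    ∃ r : F, LM C c m w = r • LinearMap.id := by
  by_contra! hne
  obtain ⟨a, κ, ha0, ha, hκ, m₀, hm₀, h₀, e₁⟩ := exists_sm_lset hO Fr hm h hne
  obtain ⟨a', σ, haa, hσe, hσi, m₃, hm₃, h₃, e₃⟩ := exists_conj hO Fr hm₀ h₀ ha0 ha
  have hb := bracket hO Fr hm₀ hm₃ h₀ h₃ a
  have hcs : cjA σ (κ • C.sm a a) = κ • C.sm a' a' := by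
    rw [← hσe, ← cjA_sm hσi a a]; exact LinearMap.ext fun z => by simp [cjA_apply]
  rw [e₃ _ Fr.bw, e₁, hcs] at hb
  simp only [LinearMap.smul_apply, map_smul] at hb
  rw [smul_smul, smul_smul, ← smul_sub] at hb
  exact smul_ne_zero (mul_ne_zero hκ hκ) (comm_sm_ne hO.h1 ha haa) hb

/-- The radical meets `M` in the elements `yv`. -/
theorem rad_eq_yv (hO : Ovg C K M) (Fr : Frame C b c w) (hm : m ∈ M) (h : Rad3 C b m) :
    ∃ (v : Fin 3 → F) (hv : C.g b v = 0), C.g c v = 0 ∧ m = yv C Fr.bb hv := by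
  obtain ⟨r, e⟩ := lm_scalar hO Fr hm h
  set v := (r / C.g w w) • w with hvd
  have hv : C.g b v = 0 := Fr.smul_w _
  refine ⟨v, hv, by simp [hvd, Fr.cw], ?_⟩
  have hy := rad_yv hO.h2 Fr.bb hv
  have hu := hy.inv.mul h
  have l₁ : LM C c ((yv C Fr.bb hv)⁻¹ * m) w = 0 := by
    rw [lm_mul hO.h2 Fr.bc hy.inv h Fr.bw, lm_inv hO.h2 Fr.bc hy Fr.bw, lm_yv hO.h2 Fr.bb Fr.bc hv Fr.bw,
      e, show C.g v w = r by simp [hvd, Fr.qw], neg_add_cancel]
  have h1 := eq_one_of_level2 hO Fr (mul_mem (inv_mem (yv_mem hO Fr.bb hv)) hm) fun x hx => by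
    conv_lhs => rw [Fr.dec_perp hx, map_add, hu.1, lm_spec hO.h2 Fr.bc hu Fr.bw, l₁]
    conv_rhs => rw [Fr.dec_perp hx]
    simp
  rw [inv_mul_eq_one] at h1
  exact h1.symm

/-! ### elements preserving a ruling -/

theorem pow_three_nil {E : Type*} [AddCommGroup E] [Module F E] {u : E ≃ₗ[F] E} (p : ℕ) [CharP F p]
    (hp : p.Prime) (hp3 : 3 ≤ p) (h : ∀ x, u (u (u x)) - (3 : F) • u (u x) + (3 : F) • u x - x = 0) :
    u ^ p = 1 := by
  set N : E →ₗ[F] E := u.toLinearMap - LinearMap.id with hN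
  have hu : ∀ x, u x = x + N x := fun x => by simp [hN]
  have hN3 : ∀ x, N (N (N x)) = 0 := fun x => by
    rw [← h x]; simp [hN]; module
  have key : ∀ n : ℕ, ∀ x, (u ^ n) x =
      x + (n : F) • N x + ((n : F) * ((n : F) - 1) / 2) • N (N x) := fun n => by
    induction n with
    | zero => intro x; simp
    | succ n ih =>
      intro x
      rw [pow_succ, LinearEquiv.mul_apply, ih, hu, map_add, map_add, hN3]
      have h2 : (2 : F) ≠ 0 := by
        intro e
        have : (p : ℕ) ∣ 2 := (CharP.cast_eq_zero_iff F p 2).1 (by exact_mod_cast e)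
        have := Nat.le_of_dvd two_pos this
        omega
      push_cast
      match_scalars <;> field_simp <;> ring
  refine LinearEquiv.ext fun x => ?_
  rw [key, CharP.cast_eq_zero F p]
  simp

theorem rad_pow (Fr : Frame C b c w) (hi : C.Iso m) (h : Rad3 C b m) :
    m ^ ringChar F = 1 := by
  haveI : CharP F (ringChar F) := ringChar.charP F
  have hp := CharP.char_is_prime F (ringChar F)
  have hp3 : 3 ≤ ringChar F := by
    rcases Nat.lt_or_ge (ringChar F) 3 with h3 | h3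
    · exact absurd (show (2 : F) = 0 by
        have e := ringChar.Nat.cast_ringChar (R := F)
        rw [show ringChar F = 2 by have := hp.two_le; omega] at e
        exact_mod_cast e) C.two
    · exact h3
  refine pow_three_nil (ringChar F) hp hp3 fun x => ?_
  obtain ⟨a, ha⟩ := h.2 (m x - x) (by rw [map_sub, prB_map hi h.1, sub_self])
  have e1 : m (m x) = m x + (m x - x) + C.t a b := by
    rw [map_sub] at ha
    linear_combination (norm := module) (1 : F) • ha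
  have e2 : m (m (m x)) = m (m x) + (m (m x) - m x) + C.t a b := by
    conv_lhs => rw [e1, map_add, map_add, map_sub, h.1]
  linear_combination (norm := module) (1 : F) • e2 - (1 : F) • e1

theorem rad_mem (hO : Ovg C K M) (Fr : Frame C b c w) (hi : C.Iso m) (h : Rad3 C b m) : m ∈ K := by
  haveI : CharP F (ringChar F) := ringChar.charP F
  obtain ⟨k, hk⟩ := (CharP.char_is_prime F (ringChar F)).odd_of_ne_two fun e => C.two (by
    have e' := ringChar.Nat.cast_ringChar (R := F)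
    rw [e] at e'
    exact_mod_cast e')
  have hpow : ∀ n : ℕ, C.Iso (m ^ n) := fun n => by
    induction n with
    | zero => intro x y; rfl
    | succ n ih => intro x y; rw [pow_succ, LinearEquiv.mul_apply, LinearEquiv.mul_apply, ih, hi]
  have := hO.sq _ (hpow (k + 1))
  rwa [← pow_add, show k + 1 + (k + 1) = ringChar F + 1 by omega, pow_succ, rad_pow Fr hi h,
    one_mul] at this

/-- An element of `M` stabilising `A ⊗ b`. -/
theorem isTen_of_fix (hO : Ovg C K M) (Fr : Frame C b c w) (hm : m ∈ M)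
    (hstab : ∀ a, ∃ a', m (C.t a b) = C.t a' b) : C.IsTen m := by
  have hi := hO.isoM hm
  have h2 := hO.h2
  set α₀ : (Fin 3 → F) →ₗ[F] (Fin 3 → F) := (C.prB c).comp (m.toLinearMap.comp (C.t.flip b))
  have hmb : ∀ a, m (C.t a b) = C.t (α₀ a) b := fun a => by
    obtain ⟨a', ha'⟩ := hstab a
    rw [show α₀ a = C.prB c (m (C.t a b)) from rfl, ha', C.prB_t, Fr.bc, one_smul]
  have hinj : Function.Injective α₀ := fun a a' e =>
    C.t_inj Fr.b_ne (m.injective (by rw [hmb, hmb, e]))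
  set α := LinearEquiv.ofInjectiveEndo α₀ hinj
  have hα : ∀ a, m (C.t a b) = C.t (α a) b := hmb
  have hprm : ∀ x, C.prB b x = 0 → C.prB b (m x) = 0 := fun x hx => C.f_ext fun a => by
    obtain ⟨a₀, rfl⟩ := α.surjective a
    rw [C.f_prB, ← hα, hi, ← C.f_prB, hx]; simp
  -- conjugates of `yv` lie in the radical
  have hcon : ∀ v (hv : C.g b v = 0), Rad3 C b (m⁻¹ * yv C Fr.bb hv * m) := fun v hv => by
    refine ⟨fun a => ?_, fun x hx => ?_⟩
    · show m.symm (yv C Fr.bb hv (m (C.t a b))) = _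
      rw [hα, (rad_yv h2 Fr.bb hv).1, ← hα, LinearEquiv.symm_apply_apply]
    · obtain ⟨a, ha⟩ := (rad_yv h2 Fr.bb hv).2 (m x) (hprm x hx)
      refine ⟨α.symm a, ?_⟩
      show m.symm (yv C Fr.bb hv (m x)) = _
      rw [ha, map_add, LinearEquiv.symm_apply_apply, show C.t a b = m (C.t (α.symm a) b) by
        rw [hα, LinearEquiv.apply_symm_apply], LinearEquiv.symm_apply_apply]
  have hu : ∀ v, C.g b v = 0 → C.g c v = 0 → ∃ u, C.g b u = 0 ∧ C.g c u = 0 ∧
      ∀ a w, C.g b w = 0 → C.prB v (m (C.t a w)) = C.g u w • α a := by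
    intro v hv _
    obtain ⟨u, hu, hcu, e⟩ := rad_eq_yv hO Fr
      (mul_mem (mul_mem (inv_mem hm) (yv_mem hO Fr.bb hv)) hm) (hcon v hv)
    refine ⟨u, hu, hcu, fun a w hw => C.t_inj Fr.b_ne ?_⟩
    have e' : yv C Fr.bb hv (m (C.t a w)) = m (yv C Fr.bb hu (C.t a w)) := by
      rw [← e]; exact (m.apply_symm_apply _).symm
    rw [yv_t h2 Fr.bb hu, hw, yv_apply h2 Fr.bb hv,
      hprm _ (by rw [C.prB_t, gcomm h2, hw, zero_smul])] at e'
    simp only [zero_mul, zero_div, zero_smul, sub_zero, smul_zero, map_zero, LinearMap.zero_apply,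
      map_add, map_smul, LinearMap.add_apply, LinearMap.smul_apply, hα] at e' ⊢
    exact add_left_cancel e'
  obtain ⟨u₁, hu₁, hcu₁, e₁⟩ := hu w Fr.bw Fr.cw
  set ψ : (Fin 3 → F) →ₗ[F] (Fin 3 → F) := ((C.g w w)⁻¹ • C.g u₁).smulRight w with hψ
  have hψb : ∀ z, C.g b (ψ z) = 0 := fun z => by simp [hψ, Fr.bw]
  have hψc : ∀ z, C.g c (ψ z) = 0 := fun z => by simp [hψ, Fr.cw]
  have hψw : ∀ z, C.g w (ψ z) = C.g u₁ z := fun z => by
    simp [hψ, Fr.qw, mul_comm]
  have hmw : ∀ a z, C.g b z = 0 → ∃ a', m (C.t a z) = C.t (α a) (ψ z) + C.t a' b := fun a z hz => by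
    set D := m (C.t a z) - C.t (α a) (ψ z) with hD
    have hDb : C.prB b D = 0 := by
      rw [hD, map_sub, hprm _ (by rw [C.prB_t, gcomm h2, hz, zero_smul]), C.prB_t, gcomm h2, hψb,
        zero_smul, sub_zero]
    have hD1 : C.prB w D = 0 := by
      rw [hD, map_sub, e₁ a z hz, C.prB_t, gcomm h2 (ψ z), hψw z, sub_self]
    have e := Fr.dec_perp hDb
    rw [hD1] at e
    simp only [smul_zero, map_zero, LinearMap.zero_apply, add_zero] at e
    exact ⟨_, sub_eq_iff_eq_add'.1 e⟩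
  have hψg : ∀ a a' w w', C.g b w = 0 → C.g b w' = 0 →
      C.f (α a) (α a') * C.g (ψ w) (ψ w') = C.f a a' * C.g w w' := fun a a' w w' hw hw' => by
    obtain ⟨x, hx⟩ := hmw a w hw
    obtain ⟨x', hx'⟩ := hmw a' w' hw'
    have e := hi (C.t a w) (C.t a' w')
    rw [hx, hx'] at e
    simpa [C.pol, Fr.bb, hψb, C.g_zero_comm (hψb _)] using e
  obtain ⟨a₀, ha₀⟩ := exists_aniso (C := C) hO.h1 le_rfl
  set θ := C.g (ψ w) (ψ w) with hθ
  have hθ0 : θ ≠ 0 := fun e => by
    have := hψg a₀ a₀ w w Fr.bw Fr.bw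
    rw [← hθ, e, mul_zero] at this
    exact mul_ne_zero ha₀ Fr.qw this.symm
  set ν := C.g w w / θ with hν
  have hν0 : ν ≠ 0 := div_ne_zero Fr.qw hθ0
  have hαf : ∀ a a', C.f (α a) (α a') = ν * C.f a a' := fun a a' => by
    have := hψg a a' w w Fr.bw Fr.bw
    rw [← hθ] at this
    rw [hν]; field_simp; linear_combination this
  have hψν : ∀ w w', C.g b w = 0 → C.g b w' = 0 → C.g (ψ w) (ψ w') = ν⁻¹ * C.g w w' :=
    fun w w' hw hw' => by
    have := hψg a₀ a₀ w w' hw hw'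
    rw [hαf] at this
    field_simp
    exact mul_left_cancel₀ ha₀ (by linear_combination this)
  set τ₀ : (Fin 3 → F) →ₗ[F] (Fin 3 → F) :=
    (C.g c).smulRight b + (ν⁻¹ • C.g b).smulRight c + ψ with hτ
  have hψ0 : ∀ z, ψ (z - C.g b z • c) = ψ z := fun z => by
    simp [hψ, C.g_zero_comm hcu₁]
  have hψ1 : ∀ z, ψ (z - C.g c z • b - C.g b z • c) = ψ z := fun z => by
    simp [hψ, C.g_zero_comm hcu₁, C.g_zero_comm hu₁]
  have hτg : ∀ z z', C.g (τ₀ z) (τ₀ z') = ν⁻¹ * C.g z z' := fun z z' => by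
    have e := hψν (z - C.g c z • b - C.g b z • c) (z' - C.g c z' • b - C.g b z' • c)
      (by simp [Fr.bb, Fr.bc]) (by simp [Fr.bb, Fr.bc])
    rw [hψ1, hψ1] at e
    simp [hτ, Fr.bb, Fr.cc, Fr.bc, Fr.cb, hψb, hψc, C.g_zero_comm (hψb _), C.g_zero_comm (hψc _), e,
      gcomm h2 z b, gcomm h2 z c]
    ring
  have hτinj : Function.Injective τ₀ := (injective_iff_map_eq_zero τ₀).2 fun z hz =>
    C.gnd z fun z' => by
      have := hτg z z'
      rw [hz, map_zero, LinearMap.zero_apply] at this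
      exact (mul_eq_zero.1 this.symm).resolve_left (inv_ne_zero hν0)
  set τ := LinearEquiv.ofInjectiveEndo τ₀ hτinj
  have hτb : τ b = b := by
    show τ₀ b = b
    simp [hτ, hψ, Fr.bb, Fr.cb, C.g_zero_comm hu₁]
  have hτw : ∀ w, C.g b w = 0 → C.g c w = 0 → τ w = ψ w := fun w h h' => by
    show τ₀ w = _
    simp [hτ, h, h']
  have hteI : C.Iso (C.te α τ) := fun x y =>
    LinearMap.congr_fun (LinearMap.congr_fun (C.ext_pure₂
      (L := (C.p.comp (C.te α τ).toLinearMap).compl₂ (C.te α τ).toLinearMap) (L' := C.p)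
      fun a z a' z' => by
        show C.p (C.te α τ (C.t a z)) (C.te α τ (C.t a' z')) = _
        rw [C.te_t, C.te_t, C.pol, C.pol, hαf, show C.g (τ z) (τ z') = _ from hτg z z']
        field_simp) x) y
  set u := (C.te α τ)⁻¹ * m with hu
  have huI : C.Iso u := fun x y => by
    rw [hu, LinearEquiv.mul_apply, LinearEquiv.mul_apply]
    show C.p ((C.te α τ).symm (m x)) ((C.te α τ).symm (m y)) = _
    rw [hteI.symm_left, LinearEquiv.apply_symm_apply, hi]
  have htb : ∀ a, (C.te α τ).symm (C.t (α a) b) = C.t a b := fun a => by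
    rw [LinearEquiv.symm_apply_eq, C.te_t, hτb]
  have hur : Rad3 C b u := by
    refine ⟨fun a => ?_, fun x hx => ?_⟩
    · show (C.te α τ).symm (m (C.t a b)) = _
      rw [hα, htb]
    · have e : ∃ y, m x = C.te α τ x + C.t y b := by
        obtain ⟨y₁, hy₁⟩ := hmw ((C.g w w)⁻¹ • C.prB w x) w Fr.bw
        refine ⟨y₁, ?_⟩
        conv_lhs => rw [Fr.dec_perp hx, map_add, hα, hy₁]
        conv_rhs => rw [Fr.dec_perp hx, map_add, C.te_t, C.te_t, hτb, hτw _ Fr.bw Fr.cw]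
        simp only [hψ]
        abel
      obtain ⟨y, hy⟩ := e
      refine ⟨α.symm y, ?_⟩
      show (C.te α τ).symm (m x) = _
      rw [hy, map_add, LinearEquiv.symm_apply_apply]
      conv_lhs => rw [← α.apply_symm_apply y, htb]
  have huK := rad_mem hO Fr huI hur
  have hteM : C.te α τ ∈ M := by
    refine hO.ten _ ?_ (isTen_te _ _)
    have := mul_mem (hO.le hm) (inv_mem huK)
    rwa [hu, mul_inv_rev, inv_inv, mul_inv_cancel_left] at this
  obtain ⟨v, hv, -, e⟩ := rad_eq_yv hO Fr (m := u) (mul_mem (inv_mem hteM) hm) hur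
  refine ⟨α, τ * C.swap.eA (a := b) (x := v) Fr.bb hv, fun a z => ?_⟩
  rw [show m = C.te α τ * u by rw [hu, mul_inv_cancel_left], e, LinearEquiv.mul_apply, yv, C.te_t,
    LinearEquiv.refl_apply, C.te_t]
  rfl

/-- An element of `M` carrying a singular ruling onto another. -/
theorem isTen_of_line (hO : Ovg C K M) (hm : m ∈ M) {b b' : Fin 3 → F} (hb0 : b ≠ 0)
    (hb : C.g b b = 0) (hb0' : b' ≠ 0) (hb' : C.g b' b' = 0)
    (hmap : ∀ a, ∃ a', m (C.t a b) = C.t a' b') : C.IsTen m := by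
  obtain ⟨c, w, Fr⟩ := exists_frame hO.h2 hb0 hb
  obtain ⟨d, hd, hd1, hd2⟩ := exists_common (C := C) hO.h2 (by norm_num) hb0' hb' hb0 hb
  obtain ⟨τ₁, r₁, -, hτ₁, e₁⟩ := exists_move_right hO.right hO.h2 (by norm_num) hb' hd hd1
  obtain ⟨τ₂, r₂, -, hτ₂, e₂⟩ := exists_move_right hO.right hO.h2 (by norm_num) hd hb
    (by rw [gcomm hO.h2]; exact hd2)
  set k := C.te (LinearEquiv.refl F _) τ₂ * C.te (LinearEquiv.refl F _) τ₁ with hk
  obtain ⟨σ, τ, hst⟩ := isTen_of_fix hO Fr (m := k * m) (mul_mem (mul_mem hτ₂ hτ₁) hm) fun a => by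
    obtain ⟨a', ha'⟩ := hmap a
    refine ⟨(r₂ * r₁) • a', ?_⟩
    rw [LinearEquiv.mul_apply, ha', hk, LinearEquiv.mul_apply, C.te_t, C.te_t]
    simp [e₁, e₂, smul_smul, mul_comm]
  refine ⟨σ, (τ₂ * τ₁)⁻¹ * τ, fun a z => k.injective ?_⟩
  rw [← LinearEquiv.mul_apply, hst, hk, LinearEquiv.mul_apply, C.te_t, C.te_t]
  simp only [LinearEquiv.refl_apply, LinearEquiv.mul_apply]
  congr 1
  exact ((τ₂ * τ₁).apply_symm_apply _).symm

/-- An element of `M` carrying a singular ruling onto one of the other kind. -/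
theorem isTenS_of_line (hO : Ovg C K M) (hm : m ∈ M) {b : Fin 3 → F} (hb0 : b ≠ 0)
    (hb : C.g b b = 0) {a₁ : Fin 3 → F} (ha₁ : a₁ ≠ 0) (ha₁i : C.f a₁ a₁ = 0)
    (hmap : ∀ a, ∃ z, m (C.t a b) = C.t a₁ z) : IsTenS C m := by
  obtain ⟨s, hs, σ, τ, hst⟩ := hO.swK
  obtain ⟨y, hy⟩ := exists_aniso (C := C) hO.h1 le_rfl
  have hb' : C.g (σ a₁) (σ a₁) = 0 := by
    have e := hO.isoM hs (C.t a₁ (τ.symm y)) (C.t a₁ (τ.symm y))
    rw [hst, LinearEquiv.apply_symm_apply, C.pol, C.pol, ha₁i, zero_mul] at e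
    exact (mul_eq_zero.1 e).resolve_left hy
  obtain ⟨σ', τ', h⟩ := isTen_of_line hO (m := s * m) (mul_mem hs hm) hb0 hb
    ((LinearEquiv.map_ne_zero_iff σ).2 ha₁) hb' fun a => by
    obtain ⟨z, hz⟩ := hmap a
    exact ⟨τ z, by rw [LinearEquiv.mul_apply, hz, hst]⟩
  refine ⟨τ.symm * σ', σ.symm * τ', fun a z => s.injective ?_⟩
  rw [← LinearEquiv.mul_apply, h, hst]
  simp

end Cfsg.Agent.TenForm.ThreeThree
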