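import Cfsg.Agent.Lib.C4.ThreeThree.Norm

/-!
# `A ⊗ B`, both of dimension three: skew operators, traces and projections

* `ad` : conjugation of operators
* `db`, `db'` : dual bases of the skew operators of the right factor for the trace form
* `trace_tm`, `proj` : projection along biorthogonal families
* `wr_tm` : the wreath part permutes products of skew operators
-/

set_option autoImplicit false
set_option linter.unusedSectionVars false
set_option linter.unusedSimpArgs false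

namespace Cfsg.Agent.TenForm.ThreeThree

open Module
open Cfsg.Agent.TenForm TT

variable {ι : Type} [Fintype ι] [DecidableEq ι] {F : Type*} [Field F] [Fintype F]
variable {C : TT ι F 3 3} {K M : Subgroup ((ι → F) ≃ₗ[F] (ι → F))}
variable {a d α b c w : Fin 3 → F}

/-! ### conjugation of operators of `V` -/

/-- `Z ↦ m Z m⁻¹`. -/
noncomputable def ad (m : (ι → F) ≃ₗ[F] (ι → F)) : Module.End F (Module.End F (ι → F)) :=
  m.conj.toLinearMap

theorem ad_apply (m : (ι → F) ≃ₗ[F] (ι → F)) (Z : Module.End F (ι → F)) (x : ι → F) :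
    ad m Z x = m (Z (m.symm x)) := rfl

theorem ad_mul (m m' : (ι → F) ≃ₗ[F] (ι → F)) : ad (m * m') = ad m * ad m' :=
  LinearMap.ext fun Z => LinearMap.ext fun x => rfl

theorem ad_one : ad (1 : (ι → F) ≃ₗ[F] (ι → F)) = 1 :=
  LinearMap.ext fun Z => LinearMap.ext fun x => rfl

theorem ad_pow (m : (ι → F) ≃ₗ[F] (ι → F)) (n : ℕ) : ad (m ^ n) = ad m ^ n := by
  induction n with
  | zero => rw [pow_zero, pow_zero, ad_one]
  | succ n ih => rw [pow_succ, pow_succ, ad_mul, ih]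

theorem ad_inv_left (m : (ι → F) ≃ₗ[F] (ι → F)) (Z : Module.End F (ι → F)) : ad m⁻¹ (ad m Z) = Z := by
  rw [← Module.End.mul_apply, ← ad_mul, inv_mul_cancel, ad_one, Module.End.one_apply]

theorem ad_inv_right (m : (ι → F) ≃ₗ[F] (ι → F)) (Z : Module.End F (ι → F)) : ad m (ad m⁻¹ Z) = Z := by
  rw [← Module.End.mul_apply, ← ad_mul, mul_inv_cancel, ad_one, Module.End.one_apply]

theorem ad_mul_mul (m : (ι → F) ≃ₗ[F] (ι → F)) (Y Z : Module.End F (ι → F)) :
    ad m (Y * Z) = ad m Y * ad m Z :=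
  LinearMap.ext fun x => by simp [ad_apply, Module.End.mul_apply]

theorem ad_te_tm (σ τ : (Fin 3 → F) ≃ₗ[F] (Fin 3 → F))
    (N L : (Fin 3 → F) →ₗ[F] (Fin 3 → F)) :
    ad (C.te σ τ) (C.tm N L) = C.tm (cjA σ N) (cjA τ L) := by
  rw [← cj_te_tm]; rfl

theorem swp_symm (a z : Fin 3 → F) : (swp C).symm (C.t a z) = C.t z a := swMap_t C a z

theorem ad_swp_tm (N L : (Fin 3 → F) →ₗ[F] (Fin 3 → F)) : ad (swp C) (C.tm N L) = C.tm L N :=
  C.ext_pure fun a z => by rw [ad_apply, swp_symm, C.tm_t, swp_t, C.tm_t]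

theorem tm_mul (N N' L L' : (Fin 3 → F) →ₗ[F] (Fin 3 → F)) :
    (C.tm N L * C.tm N' L' : Module.End F (ι → F)) = C.tm (N.comp N') (L.comp L') :=
  LinearMap.ext fun x => C.tm_comp N N' L L' x

/-! ### traces -/

theorem trace_tm (C : TT ι F 3 3) (N L : (Fin 3 → F) →ₗ[F] (Fin 3 → F)) :
    LinearMap.trace F _ (C.tm N L) = LinearMap.trace F _ N * LinearMap.trace F _ L := by
  have h : ∀ i, (N.comp (C.prB (C.dB i))).comp (C.t.flip (L (Pi.single i 1))) =
      (L (Pi.single i 1) i) • N := fun i =>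
    LinearMap.ext fun u => by simp [C.prB_t, C.g_dB]
  rw [TT.tm, map_sum, LinearMap.trace_eq_matrix_trace F (Pi.basisFun F (Fin 3)) L, Matrix.trace,
    Finset.mul_sum]
  refine Finset.sum_congr rfl fun i _ => ?_
  rw [LinearMap.trace_comp_comm', h, map_smul, smul_eq_mul, mul_comm]
  simp [LinearMap.toMatrix_apply]

theorem trace_Dop_comp (h1 : C.s₁ = 1) (x y u v : Fin 3 → F) :
    LinearMap.trace F _ ((C.Dop x y).comp (C.Dop u v)) = 2 * (C.f y u * C.f x v - C.f x u * C.f y v) := by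
  have e : (C.Dop x y).comp (C.Dop u v) = (C.f y u) • C.sm x v - (C.f y v) • C.sm x u -
      (C.f x u) • C.sm y v + (C.f x v) • C.sm y u := LinearMap.ext fun z => by
    simp [Dop_apply, sm_apply, h1]; module
  rw [e, TT.sm, TT.sm, TT.sm, TT.sm]
  simp [f_comm h1 v x, f_comm h1 u x, f_comm h1 v y, f_comm h1 u y]
  ring

theorem trace_Dop (h1 : C.s₁ = 1) (x y : Fin 3 → F) : LinearMap.trace F _ (C.Dop x y) = 0 := by
  simp [TT.Dop, TT.sm, h1, f_comm h1 x y]

/-! ### the skew operators of the right factor -/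

/-- A basis of the skew operators. -/
def db (C : TT ι F 3 3) (b c w : Fin 3 → F) : Fin 3 → ((Fin 3 → F) →ₗ[F] (Fin 3 → F)) :=
  ![C.swap.Dop b w, C.swap.Dop c w, C.swap.Dop b c]

/-- The dual basis. -/
def db' (C : TT ι F 3 3) (b c w : Fin 3 → F) : Fin 3 → ((Fin 3 → F) →ₗ[F] (Fin 3 → F)) :=
  ![(-(2 * C.g w w))⁻¹ • C.swap.Dop c w, (-(2 * C.g w w))⁻¹ • C.swap.Dop b w, (2 : F)⁻¹ • C.swap.Dop b c]

theorem db_tr (Fb : Frame C b c w) (i j : Fin 3) :
    LinearMap.trace F _ ((db C b c w i).comp (db' C b c w j)) = if i = j then 1 else 0 := by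
  have h := trace_Dop_comp (C := C.swap) Fb.h2
  have h22 := C.two
  have hq := Fb.qw
  fin_cases i <;> fin_cases j <;>
    simp [db, db', LinearMap.comp_smul, h, show C.swap.f = C.g from rfl, Fb.bb, Fb.cc, Fb.bc, Fb.cb,
      Fb.bw, Fb.cw, Fb.wb, Fb.wc] <;> field_simp <;> ring

theorem db_skew (Fb : Frame C b c w) (i : Fin 3) : C.swap.SkewA (db C b c w i) := by
  fin_cases i <;> exact C.swap.skewA_Dop _ _

theorem skew_smul {N : (Fin 3 → F) →ₗ[F] (Fin 3 → F)} (h : C.SkewA N) (r : F) : C.SkewA (r • N) :=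
  fun x y => by simp [h x y]

theorem db'_skew (Fb : Frame C b c w) (i : Fin 3) : C.swap.SkewA (db' C b c w i) := by
  fin_cases i <;> exact skew_smul (C := C.swap) (C.swap.skewA_Dop _ _) _

theorem db_trace (Fb : Frame C b c w) (i : Fin 3) :
    LinearMap.trace F _ (db C b c w i) = 0 ∧ LinearMap.trace F _ (db' C b c w i) = 0 := by
  have h := trace_Dop (C := C.swap) Fb.h2
  fin_cases i <;> simp [db, db', h]

/-- The coordinates of a skew operator. -/
theorem so_eq (Fb : Frame C b c w) {Y : (Fin 3 → F) →ₗ[F] (Fin 3 → F)} (h : C.swap.SkewA Y) :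
    Y = -(C.g (Y c) w / C.g w w) • C.swap.Dop b w + -(C.g (Y b) w / C.g w w) • C.swap.Dop c w +
      C.g (Y b) c • C.swap.Dop b c := by
  have hs : ∀ x y, C.g (Y x) y = -C.g x (Y y) := h
  have hd : ∀ x, C.g (Y x) x = 0 := fun x => (mul_eq_zero.1 (show (2 : F) * C.g (Y x) x = 0 by
    have e := hs x x
    rw [gcomm Fb.h2 x (Y x)] at e
    linear_combination e)).resolve_left C.two
  have hbc : C.g (Y c) b = -C.g (Y b) c := by rw [hs, gcomm Fb.h2]
  have hwb : C.g (Y w) b = -C.g (Y b) w := by rw [hs, gcomm Fb.h2]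
  have hwc : C.g (Y w) c = -C.g (Y c) w := by rw [hs, gcomm Fb.h2]
  refine LinearMap.ext fun z => ?_
  have hq := Fb.qw
  conv_lhs => rw [Fb.dec_B z, map_add, map_add, map_smul, map_smul, map_smul, Fb.dec_B (Y b),
    Fb.dec_B (Y c), Fb.dec_B (Y w)]
  simp [Dop_apply, show C.swap.f = C.g from rfl, show C.swap.s₁ = 1 from Fb.h2, hd, hbc, hwb, hwc,
    gcomm Fb.h2 b (Y _), gcomm Fb.h2 c (Y _), gcomm Fb.h2 w (Y _)]
  match_scalars <;> field_simp <;> ring

theorem so_mem (Fb : Frame C b c w) {Y : (Fin 3 → F) →ₗ[F] (Fin 3 → F)} (h : C.swap.SkewA Y) :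
    Y ∈ Submodule.span F (Set.range (db C b c w)) ∧
      Y ∈ Submodule.span F (Set.range (db' C b c w)) := by
  have h22 := C.two
  have hk : -(2 * C.g w w) ≠ 0 := neg_ne_zero.2 (mul_ne_zero h22 Fb.qw)
  have m : ∀ i, db C b c w i ∈ Submodule.span F (Set.range (db C b c w)) := fun i =>
    Submodule.subset_span ⟨i, rfl⟩
  have m' : ∀ i, db' C b c w i ∈ Submodule.span F (Set.range (db' C b c w)) := fun i =>
    Submodule.subset_span ⟨i, rfl⟩
  rw [so_eq Fb h]
  refine ⟨add_mem (add_mem (Submodule.smul_mem _ _ (m 0)) (Submodule.smul_mem _ _ (m 1)))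
    (Submodule.smul_mem _ _ (m 2)), add_mem (add_mem (Submodule.smul_mem _ _ ?_)
      (Submodule.smul_mem _ _ ?_)) (Submodule.smul_mem _ _ ?_)⟩
  · rw [show C.swap.Dop b w = (-(2 * C.g w w)) • db' C b c w 1 from (smul_inv_smul₀ hk _).symm]
    exact Submodule.smul_mem _ _ (m' 1)
  · rw [show C.swap.Dop c w = (-(2 * C.g w w)) • db' C b c w 0 from (smul_inv_smul₀ hk _).symm]
    exact Submodule.smul_mem _ _ (m' 0)
  · rw [show C.swap.Dop b c = (2 : F) • db' C b c w 2 from (smul_inv_smul₀ h22 _).symm]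
    exact Submodule.smul_mem _ _ (m' 2)

/-! ### products -/

/-- `tm` as a bilinear map. -/
noncomputable def tmL (C : TT ι F 3 3) : ((Fin 3 → F) →ₗ[F] (Fin 3 → F)) →ₗ[F]
    ((Fin 3 → F) →ₗ[F] (Fin 3 → F)) →ₗ[F] Module.End F (ι → F) :=
  LinearMap.mk₂ F C.tm C.tm_add C.tm_smul C.tm_add_right C.tm_smul_right

theorem tmL_apply (X Y : (Fin 3 → F) →ₗ[F] (Fin 3 → F)) : tmL C X Y = C.tm X Y := rfl

theorem tm_mem_span {κ κ' : Type} (u : κ → ((Fin 3 → F) →ₗ[F] (Fin 3 → F)))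
    (v : κ' → ((Fin 3 → F) →ₗ[F] (Fin 3 → F))) {X Y : (Fin 3 → F) →ₗ[F] (Fin 3 → F)}
    (hX : X ∈ Submodule.span F (Set.range u)) (hY : Y ∈ Submodule.span F (Set.range v)) :
    C.tm X Y ∈ Submodule.span F (Set.range fun ij : κ × κ' => C.tm (u ij.1) (v ij.2)) := by
  have h := Submodule.apply_mem_map₂ (tmL C) hX hY
  rw [Submodule.map₂_span_span] at h
  refine Submodule.span_mono ?_ h
  rintro _ ⟨_, ⟨i, rfl⟩, _, ⟨j, rfl⟩, rfl⟩
  exact ⟨(i, j), rfl⟩

/-! ### projections -/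

section proj

variable {κ : Type} [Fintype κ] [DecidableEq κ] (e e' : κ → Module.End F (ι → F))

/-- The projection along a biorthogonal family. -/
noncomputable def proj : Module.End F (Module.End F (ι → F)) :=
  ∑ i, ((LinearMap.trace F (ι → F)).comp (LinearMap.mulRight F (e' i))).smulRight (e i)

theorem proj_apply (Z : Module.End F (ι → F)) :
    proj e e' Z = ∑ i, LinearMap.trace F (ι → F) (Z * e' i) • e i := by
  simp [proj]

theorem proj_mem (Z : Module.End F (ι → F)) : proj e e' Z ∈ Submodule.span F (Set.range e) := by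
  rw [proj_apply]
  exact Submodule.sum_mem _ fun i _ => Submodule.smul_mem _ _ (Submodule.subset_span ⟨i, rfl⟩)

variable {e e'} (hbi : ∀ i j, LinearMap.trace F (ι → F) (e i * e' j) = if i = j then 1 else 0)
include hbi

theorem proj_id {Z : Module.End F (ι → F)} (hZ : Z ∈ Submodule.span F (Set.range e)) :
    proj e e' Z = Z := by
  obtain ⟨r, rfl⟩ := (Submodule.mem_span_range_iff_exists_fun F).1 hZ
  simp only [map_sum, map_smul]
  refine Finset.sum_congr rfl fun j _ => ?_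
  simp [proj_apply, hbi]

theorem linearIndependent_of_bi : LinearIndependent F e := by
  rw [Fintype.linearIndependent_iff]
  intro r hr j
  have := congrArg (fun Z => LinearMap.trace F (ι → F) (Z * e' j)) hr
  simpa [Finset.sum_mul, hbi] using this

theorem proj_comm (hsub : ∀ i, e i ∈ Submodule.span F (Set.range e'))
    (hsub' : ∀ i, e' i ∈ Submodule.span F (Set.range e))
    {h : (ι → F) ≃ₗ[F] (ι → F)}
    (hh : ∀ Z ∈ Submodule.span F (Set.range e), ad h Z ∈ Submodule.span F (Set.range e))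
    (hh' : ∀ Z ∈ Submodule.span F (Set.range e), ad h⁻¹ Z ∈ Submodule.span F (Set.range e))
    (Z : Module.End F (ι → F)) : proj e e' (ad h Z) = ad h (proj e e' Z) := by
  set y := Z - proj e e' Z with hy
  have hy0 : ∀ j, LinearMap.trace F (ι → F) (y * e' j) = 0 := fun j => by
    rw [hy, sub_mul, map_sub, proj_apply, Finset.sum_mul, map_sum, sub_eq_zero]
    simp [hbi]
  have hperp : ∀ W ∈ Submodule.span F (Set.range e'), LinearMap.trace F (ι → F) (y * W) = 0 := fun W hW => by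
    obtain ⟨r, rfl⟩ := (Submodule.mem_span_range_iff_exists_fun F).1 hW
    simp [Finset.mul_sum, hy0]
  have hp : proj e e' (ad h y) = 0 := by
    rw [proj_apply]
    refine Finset.sum_eq_zero fun j _ => ?_
    have e1 : ad h y * e' j = ad h (y * ad h⁻¹ (e' j)) := by rw [ad_mul_mul, ad_inv_right]
    rw [e1, show ad h (y * ad h⁻¹ (e' j)) = h.conj (y * ad h⁻¹ (e' j)) from rfl, LinearMap.trace_conj',
      hperp _ (Submodule.span_le.2 (by rintro _ ⟨i, rfl⟩; exact hsub i) (hh' _ (hsub' j))), zero_smul]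
  rw [show Z = proj e e' Z + y by rw [hy]; abel, map_add (ad h), map_add, map_add, hp, add_zero,
    proj_id hbi (hh _ (proj_mem e e' Z)), proj_id hbi (proj_mem e e' Z),
    show proj e e' y = 0 by rw [proj_apply]; exact Finset.sum_eq_zero fun j _ => by rw [hy0, zero_smul],
    add_zero]

end proj

/-! ### the wreath part -/

theorem exists_mult (h1 : C.s₁ = 1) (h2 : C.s₂ = 1) {σ τ : (Fin 3 → F) ≃ₗ[F] (Fin 3 → F)}
    (hi : C.Iso (C.te σ τ)) : ∃ ν : F, ∀ a a', C.f (σ a) (σ a') = ν * C.f a a' := by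
  obtain ⟨y, hy'⟩ := exists_aniso (C := C.swap) h2 le_rfl
  have hy : C.g y y ≠ 0 := hy'
  obtain ⟨a₀, ha₀⟩ := exists_aniso (C := C) h1 le_rfl
  have he : ∀ a a', C.f (σ a) (σ a') * C.g (τ y) (τ y) = C.f a a' * C.g y y := fun a a' => by
    rw [← C.pol, ← C.te_t, ← C.te_t, hi, C.pol]
  refine ⟨C.g y y / C.g (τ y) (τ y), fun a a' => ?_⟩
  have hθ : C.g (τ y) (τ y) ≠ 0 := fun e => by
    have := he a₀ a₀
    rw [e, mul_zero] at this
    exact mul_ne_zero ha₀ hy this.symm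
  field_simp
  linear_combination he a a'

theorem skew_cjA {σ : (Fin 3 → F) ≃ₗ[F] (Fin 3 → F)} {ν : F}
    (hσ : ∀ a a', C.f (σ a) (σ a') = ν * C.f a a') {X : (Fin 3 → F) →ₗ[F] (Fin 3 → F)}
    (hX : C.SkewA X) : C.SkewA (cjA σ X) := fun u v => by
  obtain ⟨u, rfl⟩ := σ.surjective u
  obtain ⟨v, rfl⟩ := σ.surjective v
  simp [cjA_apply, hσ, hX u v]

theorem skew_fg (hO : Ovg C K M) {X : (Fin 3 → F) →ₗ[F] (Fin 3 → F)} :
    C.swap.SkewA X ↔ C.SkewA X := by
  obtain ⟨a₀, ha₀⟩ := exists_aniso (C := C) hO.h1 le_rfl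
  have hg₀ : C.g a₀ a₀ ≠ 0 := fun e => by
    obtain ⟨y, hy⟩ := exists_aniso (C := C.swap) hO.h2 le_rfl
    have := hO.fg y y a₀ a₀
    rw [e, mul_zero] at this
    exact hy ((mul_eq_zero.1 this).resolve_left ha₀)
  have hg : ∀ u v, C.f u v * C.g a₀ a₀ = C.f a₀ a₀ * C.g u v := fun u v => by
    rw [hO.fg a₀ a₀ u v]
  constructor
  · intro h u v
    have h' : C.g (X u) v = -C.g u (X v) := h u v
    refine mul_right_cancel₀ hg₀ ?_
    rw [neg_mul, hg, hg, h']; ring
  · intro h u v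
    show C.g (X u) v = -C.g u (X v)
    refine mul_left_cancel₀ ha₀ ?_
    rw [mul_neg, ← hg, ← hg, h]; ring

/-- The wreath part permutes the products. -/
theorem wr_tm (hO : Ovg C K M) {h : (ι → F) ≃ₗ[F] (ι → F)} (hi : C.Iso h) (hw : IsWr C h) :
    ∃ σ τ : (Fin 3 → F) ≃ₗ[F] (Fin 3 → F),
      (∀ X, C.SkewA X → C.SkewA (cjA σ X)) ∧ (∀ X, C.SkewA X → C.SkewA (cjA τ X)) ∧
      ((∀ X Y, ad h (C.tm X Y) = C.tm (cjA σ X) (cjA τ Y)) ∨
        (∀ X Y, ad h (C.tm X Y) = C.tm (cjA σ Y) (cjA τ X))) := by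
  have key : ∀ σ τ, C.Iso (C.te σ τ) → (∀ X, C.SkewA X → C.SkewA (cjA σ X)) ∧
      (∀ X, C.SkewA X → C.SkewA (cjA τ X)) := fun σ τ hi' => by
    obtain ⟨ν, hν⟩ := exists_mult hO.h1 hO.h2 hi'
    obtain ⟨μ, hμ⟩ := exists_mult (C := C.swap) hO.h2 hO.h1 (σ := τ) (τ := σ) (by rw [te_swap]; exact hi')
    exact ⟨fun X hX => skew_cjA hν hX,
      fun X hX => (skew_fg hO).1 (skew_cjA (C := C.swap) hμ ((skew_fg hO).2 hX))⟩
  rcases hw with ⟨σ, τ, e⟩ | ⟨σ, τ, e⟩
  · have he := C.eq_te e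
    obtain ⟨k1, k2⟩ := key σ τ (he ▸ hi)
    exact ⟨σ, τ, k1, k2, .inl fun X Y => by rw [he, ad_te_tm]⟩
  · have he : h = C.te τ σ * swp C := LinearEquiv.ext fun x => LinearMap.congr_fun (C.ext_pure
      (L := h.toLinearMap) (L' := (C.te τ σ * swp C).toLinearMap) fun u z => by
        simp [LinearEquiv.mul_apply, e, swp_t, C.te_t]) x
    have hi' : C.Iso (C.te τ σ) := fun x y => by
      obtain ⟨x', rfl⟩ := (swp C).surjective x
      obtain ⟨y', rfl⟩ := (swp C).surjective y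
      rw [swp_iso hO.fg, ← LinearEquiv.mul_apply, ← LinearEquiv.mul_apply, ← he, hi]
    obtain ⟨k1, k2⟩ := key τ σ hi'
    exact ⟨τ, σ, k1, k2, .inr fun X Y => by
      rw [he, ad_mul, Module.End.mul_apply, ad_swp_tm, ad_te_tm]⟩

end Cfsg.Agent.TenForm.ThreeThree
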