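import Cfsg.Agent.Lib.C4.ThreeThree.Avg

/-!
# `A ⊗ B`, both of dimension three: the invariant spaces of skew operators

* `w2`, `w2_inv` : `so A ⊗ so B` is invariant under `M` when `5 < q`
* `wl`, `wl_inv` : `so A ⊗ 1 + 1 ⊗ so B` is invariant under `M` when `3` is invertible
-/

set_option autoImplicit false
set_option linter.unusedSectionVars false
set_option linter.unusedSimpArgs false

namespace Cfsg.Agent.TenForm.ThreeThree

open Module
open Cfsg.Agent.TenForm TT

variable {ι : Type} [Fintype ι] [DecidableEq ι] {F : Type*} [Field F] [Fintype F]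
variable {C : TT ι F 3 3} {K M : Subgroup ((ι → F) ≃ₗ[F] (ι → F))}
variable {a d α b c w : Fin 3 → F}

/-- The frame with the hyperbolic pair reversed. -/
theorem Frame.rev (Fb : Frame C b c w) : Frame C c b w :=
  { h2 := Fb.h2, bb := Fb.cc, cc := Fb.bb, bc := Fb.cb, bw := Fb.cw, cw := Fb.bw, qw := Fb.qw }

theorem cjA_db_fix (Fb : Frame C b c w) (t : F) :
    cjA (C.swap.eA (a := b) (x := t • w) Fb.bb (Fb.smul_w t)) (db C b c w 0) = db C b c w 0 := by
  have hv : ∀ z, C.swap.eA (a := b) (x := t • w) Fb.bb (Fb.smul_w t) z =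
      z + C.g (t • w) z • b - C.g b z • (t • w) - (C.g b z * C.g (t • w) (t • w) / 2) • b :=
    fun z => eA_val (C := C.swap) Fb.h2 Fb.bb _ z
  show cjA _ (C.swap.Dop b w) = C.swap.Dop b w
  rw [cjA_Dop (C := C.swap) (C.swap.eA_iso (a := b) (x := t • w) Fb.bb (Fb.smul_w t)), hv, hv]
  refine LinearMap.ext fun z => ?_
  simp [Dop_apply, show C.swap.f = C.g from rfl, show C.swap.s₁ = 1 from Fb.h2, Fb.bb, Fb.bw, Fb.wb]
  module

/-- The translates of one skew operator span the skew operators. -/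
theorem so_span (Fb : Frame C b c w) (S : Submodule F ((Fin 3 → F) →ₗ[F] (Fin 3 → F)))
    (hS : ∀ t : F, cjA (C.swap.eA (a := c) (x := t • w) Fb.cc (Fb.rev.smul_w t)) (db C b c w 0) ∈ S)
    {Y : (Fin 3 → F) →ₗ[F] (Fin 3 → F)} (hY : C.swap.SkewA Y) : Y ∈ S := by
  have h22 := C.two
  have hq := Fb.qw
  have e : ∀ t : F, cjA (C.swap.eA (a := c) (x := t • w) Fb.cc (Fb.rev.smul_w t)) (db C b c w 0) =
      db C b c w 0 + (t * C.g w w) • db C b c w 2 + (t * t * C.g w w / 2) • db C b c w 1 := fun t => by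
    have hv : ∀ z, C.swap.eA (a := c) (x := t • w) Fb.cc (Fb.rev.smul_w t) z =
        z + C.g (t • w) z • c - C.g c z • (t • w) - (C.g c z * C.g (t • w) (t • w) / 2) • c :=
      fun z => eA_val (C := C.swap) Fb.h2 Fb.cc _ z
    show cjA _ (C.swap.Dop b w) = C.swap.Dop b w + _ • C.swap.Dop b c + _ • C.swap.Dop c w
    rw [cjA_Dop (C := C.swap) (C.swap.eA_iso (a := c) (x := t • w) Fb.cc (Fb.rev.smul_w t)), hv, hv]
    refine LinearMap.ext fun z => ?_
    simp [Dop_apply, show C.swap.f = C.g from rfl, show C.swap.s₁ = 1 from Fb.h2, Fb.cb, Fb.cw, Fb.wb, Fb.wc]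
    match_scalars <;> field_simp <;> ring
  have h0 : db C b c w 0 ∈ S := by
    have := hS 0
    rw [e] at this
    simpa using this
  have hp := hS 1
  have hm := hS (-1)
  rw [e] at hp hm
  have h1 : db C b c w 1 ∈ S := by
    have := S.smul_mem (C.g w w)⁻¹ (S.sub_mem (S.add_mem hp hm) (S.smul_mem (2 : F) h0))
    convert this using 1
    match_scalars <;> field_simp <;> ring
  have h2 : db C b c w 2 ∈ S := by
    have := S.smul_mem (2 * C.g w w)⁻¹ (S.sub_mem hp hm)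
    convert this using 1
    match_scalars <;> field_simp <;> ring
  exact (Submodule.span_le.2 (by
    rintro _ ⟨i, rfl⟩
    fin_cases i
    · exact h0
    · exact h1
    · exact h2)) (so_mem Fb hY).1

/-! ### the products -/

/-- A basis of `so A ⊗ so B`. -/
noncomputable def ew (C : TT ι F 3 3) (a d α b c w : Fin 3 → F) (ij : Fin 3 × Fin 3) :
    Module.End F (ι → F) := C.tm (db C.swap a d α ij.1) (db C b c w ij.2)

/-- The dual basis. -/
noncomputable def ew' (C : TT ι F 3 3) (a d α b c w : Fin 3 → F) (ij : Fin 3 × Fin 3) :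
    Module.End F (ι → F) := C.tm (db' C.swap a d α ij.1) (db' C b c w ij.2)

/-- `so A ⊗ so B`. -/
noncomputable def w2 (C : TT ι F 3 3) (a d α b c w : Fin 3 → F) : Submodule F (Module.End F (ι → F)) :=
  Submodule.span F (Set.range (ew C a d α b c w))

theorem tm_mem_w2 (hO : Ovg C K M) (Fa : Frame C.swap a d α) (Fb : Frame C b c w)
    {X Y : (Fin 3 → F) →ₗ[F] (Fin 3 → F)} (hX : C.SkewA X) (hY : C.SkewA Y) :
    C.tm X Y ∈ w2 C a d α b c w :=
  tm_mem_span _ _ (so_mem Fa hX).1 (so_mem Fb ((skew_fg hO).2 hY)).1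

theorem ew_bi (Fa : Frame C.swap a d α) (Fb : Frame C b c w) (i j : Fin 3 × Fin 3) :
    LinearMap.trace F (ι → F) (ew C a d α b c w i * ew' C a d α b c w j) = if i = j then 1 else 0 := by
  rw [ew, ew', tm_mul, trace_tm, db_tr Fa, db_tr Fb]
  obtain ⟨i₁, i₂⟩ := i
  obtain ⟨j₁, j₂⟩ := j
  by_cases h : i₁ = j₁ <;> by_cases h' : i₂ = j₂ <;> simp [h, h']

theorem w2_wr (hO : Ovg C K M) (Fa : Frame C.swap a d α) (Fb : Frame C b c w)
    {h : (ι → F) ≃ₗ[F] (ι → F)} (hh : h ∈ M) (hw : IsWr C h) :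
    ∀ Z ∈ w2 C a d α b c w, ad h Z ∈ w2 C a d α b c w := by
  obtain ⟨σ, τ, k1, k2, e⟩ := wr_tm hO (hO.isoM hh) hw
  refine fun Z hZ => (Submodule.span_le (p := (w2 C a d α b c w).comap (ad h))).2 ?_ hZ
  rintro _ ⟨⟨i, j⟩, rfl⟩
  have hi : C.SkewA (db C.swap a d α i) := db_skew Fa i
  have hj : C.SkewA (db C b c w j) := (skew_fg hO).1 (db_skew Fb j)
  show ad h (C.tm _ _) ∈ w2 C a d α b c w
  rcases e with e | e <;> rw [e]
  · exact tm_mem_w2 hO Fa Fb (k1 _ hi) (k2 _ hj)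
  · exact tm_mem_w2 hO Fa Fb (k1 _ hj) (k2 _ hi)

theorem w2_inv (hO : Ovg C K M) (hq : 5 < Fintype.card F) (Fa : Frame C.swap a d α) (Fb : Frame C b c w) :
    ∀ g ∈ M, ∀ Z ∈ w2 C a d α b c w, ad g Z ∈ w2 C a d α b c w := by
  classical
  refine ad_mem hO Fa Fb _ ⊤ (proj (ew C a d α b c w) (ew' C a d α b c w)) le_top
    (fun _ _ _ _ => trivial) (proj_mem _ _) (fun _ hx => proj_id (ew_bi Fa Fb) hx)
    (fun h hh hw x => proj_comm (ew_bi Fa Fb) (fun ⟨i, j⟩ => ?_) (fun ⟨i, j⟩ => ?_)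
      (w2_wr hO Fa Fb hh hw) (w2_wr hO Fa Fb (inv_mem hh) hw.inv) x) (fun Z _ Z' _ _ => ?_) ?_
  · exact tm_mem_span _ _ (so_mem Fa (db_skew Fa i)).2 (so_mem Fb (db_skew Fb j)).2
  · exact tm_mem_span _ _ (so_mem Fa (db'_skew Fa i)).1 (so_mem Fb (db'_skew Fb j)).1
  · rw [sum_ad_line hO.card Fb, FiniteField.sum_pow_lt_card_sub_one F 4 (by omega), zero_smul]
  set T := Submodule.span F {x | ∃ h ∈ M, IsWr C h ∧ ∃ w₀ ∈ w2 C a d α b c w,
    (∀ y, ad (pp Fa Fb y) w₀ = w₀) ∧ ad h w₀ = x}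
  have hgen : ∀ s t : F, C.tm (cjA (C.eA (a := d) (x := s • α) Fa.cc (Fa.rev.smul_w s)) (db C.swap a d α 0))
      (cjA (C.swap.eA (a := c) (x := t • w) Fb.cc (Fb.rev.smul_w t)) (db C b c w 0)) ∈ T := fun s t =>
    Submodule.subset_span ⟨_, pp_mem hO Fa.rev Fb.rev (s, t), .inl (isTen_pp Fa.rev Fb.rev _), _,
      Submodule.subset_span ⟨(0, 0), rfl⟩, fun y => by
        rw [pp_te, ew, ad_te_tm]
        exact congrArg₂ C.tm (cjA_db_fix Fa y.1) (cjA_db_fix Fb y.2),
      by rw [pp_te, ew, ad_te_tm]⟩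
  refine Submodule.span_le.2 ?_
  rintro _ ⟨⟨i, j⟩, rfl⟩
  refine so_span Fb (T.comap (tmL C (db C.swap a d α i))) (fun t => ?_) (db_skew Fb j)
  exact so_span Fa (T.comap ((tmL C).flip (cjA _ (db C b c w 0)))) (fun s => hgen s t) (db_skew Fa i)

/-! ### the sums -/

/-- A basis of `so A ⊗ 1 + 1 ⊗ so B`. -/
noncomputable def el (C : TT ι F 3 3) (a d α b c w : Fin 3 → F) : Fin 3 ⊕ Fin 3 → Module.End F (ι → F) :=
  Sum.elim (fun i => C.tm (db C.swap a d α i) LinearMap.id) (fun j => C.tm LinearMap.id (db C b c w j))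

/-- The dual basis. -/
noncomputable def el' (C : TT ι F 3 3) (a d α b c w : Fin 3 → F) : Fin 3 ⊕ Fin 3 → Module.End F (ι → F) :=
  Sum.elim (fun i => C.tm ((3 : F)⁻¹ • db' C.swap a d α i) LinearMap.id)
    (fun j => C.tm LinearMap.id ((3 : F)⁻¹ • db' C b c w j))

/-- `so A ⊗ 1 + 1 ⊗ so B`. -/
noncomputable def wl (C : TT ι F 3 3) (a d α b c w : Fin 3 → F) : Submodule F (Module.End F (ι → F)) :=
  Submodule.span F (Set.range (el C a d α b c w))

theorem tm_id_left (Fa : Frame C.swap a d α) {X : (Fin 3 → F) →ₗ[F] (Fin 3 → F)} (hX : C.SkewA X) :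
    C.tm X LinearMap.id ∈ wl C a d α b c w := by
  refine (Submodule.span_le (p := (wl C a d α b c w).comap ((tmL C).flip LinearMap.id))).2 ?_
    (so_mem Fa hX).1
  rintro _ ⟨i, rfl⟩
  exact Submodule.subset_span ⟨.inl i, rfl⟩

theorem tm_id_right (hO : Ovg C K M) (Fb : Frame C b c w) {Y : (Fin 3 → F) →ₗ[F] (Fin 3 → F)}
    (hY : C.SkewA Y) : C.tm LinearMap.id Y ∈ wl C a d α b c w := by
  refine (Submodule.span_le (p := (wl C a d α b c w).comap (tmL C LinearMap.id))).2 ?_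
    (so_mem Fb ((skew_fg hO).2 hY)).1
  rintro _ ⟨i, rfl⟩
  exact Submodule.subset_span ⟨.inr i, rfl⟩

theorem tr_id : LinearMap.trace F (Fin 3 → F) LinearMap.id = (3 : F) := by
  rw [LinearMap.trace_id, Module.finrank_fin_fun]; norm_num

theorem el_bi (Fa : Frame C.swap a d α) (Fb : Frame C b c w) (h3 : (3 : F) ≠ 0) (i j : Fin 3 ⊕ Fin 3) :
    LinearMap.trace F (ι → F) (el C a d α b c w i * el' C a d α b c w j) = if i = j then 1 else 0 := by
  rcases i with i | i <;> rcases j with j | j <;>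
    simp [el, el', tm_mul, trace_tm, db_tr Fa, db_tr Fb, (db_trace Fa _).1, (db_trace Fb _).1,
      LinearMap.comp_smul, tr_id] <;> intros <;> field_simp

theorem wl_wr (hO : Ovg C K M) (Fa : Frame C.swap a d α) (Fb : Frame C b c w)
    {h : (ι → F) ≃ₗ[F] (ι → F)} (hh : h ∈ M) (hw : IsWr C h) :
    ∀ Z ∈ wl C a d α b c w, ad h Z ∈ wl C a d α b c w := by
  obtain ⟨σ, τ, k1, k2, e⟩ := wr_tm hO (hO.isoM hh) hw
  refine fun Z hZ => (Submodule.span_le (p := (wl C a d α b c w).comap (ad h))).2 ?_ hZ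
  rintro _ ⟨i | j, rfl⟩
  · show ad h (C.tm _ _) ∈ wl C a d α b c w
    have hi : C.SkewA (db C.swap a d α i) := db_skew Fa i
    rcases e with e | e <;> rw [e, cjA_id (n₁ := 3)]
    · exact tm_id_left Fa (k1 _ hi)
    · exact tm_id_right hO Fb (k2 _ hi)
  · show ad h (C.tm _ _) ∈ wl C a d α b c w
    have hj : C.SkewA (db C b c w j) := (skew_fg hO).1 (db_skew Fb j)
    rcases e with e | e <;> rw [e, cjA_id (n₁ := 3)]
    · exact tm_id_right hO Fb (k2 _ hj)
    · exact tm_id_left Fa (k1 _ hj)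

/-- The skew operators. -/
def skewSub (C : TT ι F 3 3) : Submodule F (Module.End F (ι → F)) where
  carrier := {Z | C.Skew Z}
  zero_mem' := fun x y => by simp
  add_mem' := fun {Z Z'} h h' x y => by simp [h x y, h' x y]; abel
  smul_mem' := fun r Z h x y => by simp [h x y]

theorem p_self_zero (h1 : C.s₁ = 1) (h2 : C.s₂ = 1) {Z : Module.End F (ι → F)} (h : C.Skew Z) (x : ι → F) :
    C.p (Z x) x = 0 :=
  (mul_eq_zero.1 (show (2 : F) * C.p (Z x) x = 0 by
    have e := C.hp (Z x) x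
    rw [h1, h2, one_mul, one_mul] at e
    linear_combination h x x - e)).resolve_left C.two

theorem wl_inv (hO : Ovg C K M) (h3 : (3 : F) ≠ 0) (Fa : Frame C.swap a d α) (Fb : Frame C b c w) :
    ∀ g ∈ M, ∀ Z ∈ wl C a d α b c w, ad g Z ∈ wl C a d α b c w := by
  classical
  refine ad_mem hO Fa Fb _ (skewSub C) (proj (el C a d α b c w) (el' C a d α b c w)) ?_
    (fun g hg Z hZ => TT.Skew.cjE hZ (hO.isoM hg)) (proj_mem _ _)
    (fun _ hx => proj_id (el_bi Fa Fb h3) hx)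
    (fun h hh hw x => proj_comm (el_bi Fa Fb h3) ?_ ?_
      (wl_wr hO Fa Fb hh hw) (wl_wr hO Fa Fb (inv_mem hh) hw.inv) x) (fun Z hZ Z' hZ' e => ?_) ?_
  · refine Submodule.span_le.2 ?_
    rintro _ ⟨i | j, rfl⟩
    · exact C.skew_tm (db_skew Fa i)
    · show C.Skew (C.tm LinearMap.id (db C b c w j))
      rw [← C.tm_swap]
      exact C.swap.skew_tm (db_skew Fb j)
  · rintro (i | j)
    · refine (Submodule.span_le (p := (Submodule.span F (Set.range (el' C a d α b c w))).comap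
        ((tmL C).flip LinearMap.id))).2 ?_ (so_mem Fa (db_skew Fa i)).2
      rintro _ ⟨k, rfl⟩
      have hk : el' C a d α b c w (.inl k) ∈ Submodule.span F (Set.range (el' C a d α b c w)) :=
        Submodule.subset_span ⟨_, rfl⟩
      have := Submodule.smul_mem _ (3 : F) hk
      show C.tm (db' C.swap a d α k) LinearMap.id ∈ Submodule.span F (Set.range (el' C a d α b c w))
      rwa [show el' C a d α b c w (.inl k) = (3 : F)⁻¹ • C.tm (db' C.swap a d α k) LinearMap.id from C.tm_smul _ _ _, smul_smul,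
        mul_inv_cancel₀ h3, one_smul] at this
    · refine (Submodule.span_le (p := (Submodule.span F (Set.range (el' C a d α b c w))).comap
        (tmL C LinearMap.id))).2 ?_ (so_mem Fb (db_skew Fb j)).2
      rintro _ ⟨k, rfl⟩
      have hk : el' C a d α b c w (.inr k) ∈ Submodule.span F (Set.range (el' C a d α b c w)) :=
        Submodule.subset_span ⟨_, rfl⟩
      have := Submodule.smul_mem _ (3 : F) hk
      show C.tm LinearMap.id (db' C b c w k) ∈ Submodule.span F (Set.range (el' C a d α b c w))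
      rwa [show el' C a d α b c w (.inr k) = (3 : F)⁻¹ • C.tm LinearMap.id (db' C b c w k) from C.tm_smul_right _ _ _, smul_smul,
        mul_inv_cancel₀ h3, one_smul] at this
  · rintro (i | j)
    · exact tm_id_left Fa (skew_smul (db'_skew Fa i) _)
    · exact tm_id_right hO Fb (skew_smul ((skew_fg hO).1 (db'_skew Fb j)) _)
  · rw [sum_ad_line hO.card Fb, sum_ad_line hO.card Fa] at e
    rw [sum_ad_line hO.card Fb]
    set κ := ∑ t : F, t ^ 4
    by_cases hκ : κ = 0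
    · rw [hκ, zero_smul]
    have e' : ∀ u, C.prB b (Z (C.t u b)) = 0 := fun u => by
      have e1 := congrArg (fun T : Module.End F (ι → F) => C.prB c (T (C.t u c))) e
      have hz : C.g (C.prA a (Z' (C.t a c))) c = 0 := by
        rw [C.g_prA]; exact p_self_zero hO.h1 hO.h2 hZ' _
      simpa [sv, LinearMap.comp_apply, C.prB_t, Fb.cb, Fb.bc, hz,
        show C.swap.t = C.t.flip from rfl, show C.swap.g = C.f from rfl,
        show C.swap.prB a = C.prA a from rfl, C.prA_t, smul_smul, hκ, four_ne C, Fb.qw] using e1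
    refine C.ext_pure fun u z => ?_
    simp [sv, C.prB_t, e']
  set T := Submodule.span F {x | ∃ h ∈ M, IsWr C h ∧ ∃ w₀ ∈ wl C a d α b c w,
    (∀ y, ad (pp Fa Fb y) w₀ = w₀) ∧ ad h w₀ = x}
  have hA : ∀ s : F, C.tm (cjA (C.eA (a := d) (x := s • α) Fa.cc (Fa.rev.smul_w s)) (db C.swap a d α 0))
      LinearMap.id ∈ T := fun s =>
    Submodule.subset_span ⟨_, pp_mem hO Fa.rev Fb.rev (s, 0), .inl (isTen_pp Fa.rev Fb.rev _), _,
      Submodule.subset_span ⟨.inl 0, rfl⟩, fun y => by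
        show ad _ (C.tm _ _) = C.tm _ _
        rw [pp_te, ad_te_tm, cjA_id (n₁ := 3)]
        exact congrArg (C.tm · LinearMap.id) (cjA_db_fix Fa y.1),
      by show ad _ (C.tm _ _) = _; rw [pp_te, ad_te_tm, cjA_id (n₁ := 3)]⟩
  have hB : ∀ t : F, C.tm LinearMap.id
      (cjA (C.swap.eA (a := c) (x := t • w) Fb.cc (Fb.rev.smul_w t)) (db C b c w 0)) ∈ T := fun t =>
    Submodule.subset_span ⟨_, pp_mem hO Fa.rev Fb.rev (0, t), .inl (isTen_pp Fa.rev Fb.rev _), _,
      Submodule.subset_span ⟨.inr 0, rfl⟩, fun y => by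
        show ad _ (C.tm _ _) = C.tm _ _
        rw [pp_te, ad_te_tm, cjA_id (n₁ := 3)]
        exact congrArg (C.tm LinearMap.id) (cjA_db_fix Fb y.2),
      by show ad _ (C.tm _ _) = _; rw [pp_te, ad_te_tm, cjA_id (n₁ := 3)]⟩
  refine Submodule.span_le.2 ?_
  rintro _ ⟨i | j, rfl⟩
  · exact so_span Fa (T.comap ((tmL C).flip LinearMap.id)) hA (db_skew Fa i)
  · exact so_span Fb (T.comap (tmL C LinearMap.id)) hB (db_skew Fb j)

end Cfsg.Agent.TenForm.ThreeThree
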