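import Cfsg.Agent.Lib.C4.ThreeThree.Span

/-!
# `A ⊗ B`, both of dimension three: every element of the overgroup lies in the wreath part

* `isWr_of_wl` : recognition through the ideals of `so A ⊗ 1 + 1 ⊗ so B`
* `isWr_of_w2` : recognition through the pure tensors, the vectors moved by `so A ⊗ so B` into dimension four
* `isWr_of_mem_ovg`
-/

set_option autoImplicit false
set_option linter.unusedSectionVars false
set_option linter.unusedSimpArgs false

namespace Cfsg.Agent.TenForm.ThreeThree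

open Module
open Cfsg.Agent.TenForm TT

variable {ι : Type} [Fintype ι] [DecidableEq ι] {F : Type*} [Field F] [Fintype F]
variable {C : TT ι F 3 3} {K M : Subgroup ((ι → F) ≃ₗ[F] (ι → F))}
variable {a d α b c w : Fin 3 → F}

/-! ### the ideals -/

theorem skew_add {X X' : (Fin 3 → F) →ₗ[F] (Fin 3 → F)} (h : C.SkewA X) (h' : C.SkewA X') :
    C.SkewA (X + X') := fun x y => by simp [h x y, h' x y]; abel

theorem skew_zero : C.SkewA (0 : (Fin 3 → F) →ₗ[F] (Fin 3 → F)) := fun x y => by simp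

theorem exists_of_wl (hO : Ovg C K M) (Fa : Frame C.swap a d α) (Fb : Frame C b c w)
    {Z : Module.End F (ι → F)} (hZ : Z ∈ wl C a d α b c w) :
    ∃ X Y, C.SkewA X ∧ C.SkewA Y ∧ Z = C.tm X LinearMap.id + C.tm LinearMap.id Y := by
  induction hZ using Submodule.span_induction with
  | mem x hx =>
    obtain ⟨i | j, rfl⟩ := hx
    · exact ⟨_, 0, db_skew Fa i, skew_zero, by
        rw [show C.tm LinearMap.id (0 : (Fin 3 → F) →ₗ[F] (Fin 3 → F)) = 0 from (tmL C _).map_zero, add_zero]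
        rfl⟩
    · exact ⟨0, _, skew_zero, (skew_fg hO).1 (db_skew Fb j), by rw [C.tm_zero, zero_add]; rfl⟩
  | zero => exact ⟨0, 0, skew_zero, skew_zero, by
      rw [C.tm_zero, show C.tm LinearMap.id (0 : (Fin 3 → F) →ₗ[F] (Fin 3 → F)) = 0 from (tmL C _).map_zero,
        add_zero]⟩
  | add x y _ _ hx hy =>
    obtain ⟨X, Y, hX, hY, rfl⟩ := hx
    obtain ⟨X', Y', hX', hY', rfl⟩ := hy
    exact ⟨_, _, skew_add hX hX', skew_add hY hY', by rw [C.tm_add, C.tm_add_right]; abel⟩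
  | smul r x _ hx =>
    obtain ⟨X, Y, hX, hY, rfl⟩ := hx
    exact ⟨_, _, skew_smul hX r, skew_smul hY r, by rw [C.tm_smul, C.tm_smul_right, smul_add]⟩

theorem eq_zero_of_tm_right {T : (Fin 3 → F) →ₗ[F] (Fin 3 → F)} (h : C.tm LinearMap.id T = 0) :
    T = 0 := LinearMap.ext fun z => C.t_inj_left (a := Pi.single 0 1) (by simp) (by
  have e := LinearMap.congr_fun h (C.t (Pi.single 0 1) z)
  rw [C.tm_t] at e
  simpa using e)

theorem eq_zero_of_tm_left {T : (Fin 3 → F) →ₗ[F] (Fin 3 → F)} (h : C.tm T LinearMap.id = 0) :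
    T = 0 := LinearMap.ext fun z => C.t_inj (b := Pi.single 0 1) (by simp) (by
  have e := LinearMap.congr_fun h (C.t z (Pi.single 0 1))
  rw [C.tm_t] at e
  simpa using e)

theorem unique_wl (hO : Ovg C K M) {X Y : (Fin 3 → F) →ₗ[F] (Fin 3 → F)} (hY : C.SkewA Y)
    (h : C.tm X LinearMap.id + C.tm LinearMap.id Y = 0) : X = 0 ∧ Y = 0 := by
  obtain ⟨y, hy'⟩ := exists_aniso (C := C.swap) hO.h2 le_rfl
  have hy : C.g y y ≠ 0 := hy'
  have hYy : C.g (Y y) y = 0 := (mul_eq_zero.1 (show (2 : F) * C.g (Y y) y = 0 by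
    have e : C.g (Y y) y = -C.g y (Y y) := (skew_fg hO).2 hY y y
    rw [gcomm hO.h2 y (Y y)] at e
    linear_combination e)).resolve_left C.two
  have hX : X = 0 := LinearMap.ext fun u => by
    have e := congrArg (C.prB y) (LinearMap.congr_fun h (C.t u y))
    simp [C.tm_t, C.prB_t, hYy] at e
    exact e.resolve_left hy
  subst hX
  refine ⟨rfl, eq_zero_of_tm_right (C := C) ?_⟩
  rwa [C.tm_zero, zero_add] at h

theorem skew_bracket {X X' : (Fin 3 → F) →ₗ[F] (Fin 3 → F)} (h : C.SkewA X) (h' : C.SkewA X') :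
    C.SkewA (X.comp X' - X'.comp X) := fun x y => by
  simp only [LinearMap.sub_apply, LinearMap.comp_apply, map_sub]
  rw [h (X' x) y, h' x (X y), h' (X x) y, h x (X' y)]
  ring

/-- Commuting skew operators are proportional. -/
theorem so_comm (Fb : Frame C b c w) {X X' : (Fin 3 → F) →ₗ[F] (Fin 3 → F)} (h : C.swap.SkewA X)
    (h' : C.swap.SkewA X') (hcomm : X.comp X' = X'.comp X) (hX : X ≠ 0) : ∃ r : F, X' = r • X := by
  have hq := Fb.qw
  set x0 := -(C.g (X c) w / C.g w w) with hx0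
  set x1 := -(C.g (X b) w / C.g w w) with hx1
  set x2 := C.g (X b) c with hx2
  set y0 := -(C.g (X' c) w / C.g w w) with hy0
  set y1 := -(C.g (X' b) w / C.g w w) with hy1
  set y2 := C.g (X' b) c with hy2
  have ex : X = x0 • db C b c w 0 + x1 • db C b c w 1 + x2 • db C b c w 2 := so_eq Fb h
  have ey : X' = y0 • db C b c w 0 + y1 • db C b c w 1 + y2 • db C b c w 2 := so_eq Fb h'
  clear_value x0 x1 x2 y0 y1 y2
  subst ex ey
  have hev : ∀ z u, C.g u (((x0 • db C b c w 0 + x1 • db C b c w 1 + x2 • db C b c w 2).comp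
      (y0 • db C b c w 0 + y1 • db C b c w 1 + y2 • db C b c w 2)) z) =
      C.g u (((y0 • db C b c w 0 + y1 • db C b c w 1 + y2 • db C b c w 2).comp
      (x0 • db C b c w 0 + x1 • db C b c w 1 + x2 • db C b c w 2)) z) := fun z u => by rw [hcomm]
  have e01 : x1 * y0 = x0 * y1 := by
    have := hev b c
    simp [db, Dop_apply, show C.swap.f = C.g from rfl, show C.swap.s₁ = 1 from Fb.h2, Fb.bb, Fb.cc, Fb.bc,
      Fb.cb, Fb.bw, Fb.cw, Fb.wb, Fb.wc] at this
    refine mul_right_cancel₀ hq ?_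
    linear_combination this
  have e12 : x2 * y1 = x1 * y2 := by
    have := hev b w
    simp [db, Dop_apply, show C.swap.f = C.g from rfl, show C.swap.s₁ = 1 from Fb.h2, Fb.bb, Fb.cc, Fb.bc,
      Fb.cb, Fb.bw, Fb.cw, Fb.wb, Fb.wc] at this
    refine mul_right_cancel₀ hq ?_
    linear_combination -this
  have e02 : x2 * y0 = x0 * y2 := by
    have := hev c w
    simp [db, Dop_apply, show C.swap.f = C.g from rfl, show C.swap.s₁ = 1 from Fb.h2, Fb.bb, Fb.cc, Fb.bc,
      Fb.cb, Fb.bw, Fb.cw, Fb.wb, Fb.wc] at this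
    refine mul_right_cancel₀ hq ?_
    linear_combination -this
  by_cases k0 : x0 = 0
  · by_cases k1 : x1 = 0
    · have k2 : x2 ≠ 0 := fun k2 => hX (by rw [k0, k1, k2]; simp)
      have m0 : y0 = 0 := (mul_eq_zero.1 (show x2 * y0 = 0 by rw [e02, k0, zero_mul])).resolve_left k2
      have m1 : y1 = 0 := (mul_eq_zero.1 (show x2 * y1 = 0 by rw [e12, k1, zero_mul])).resolve_left k2
      refine ⟨y2 / x2, ?_⟩
      rw [k0, k1, m0, m1]
      simp [smul_smul, k2]
    · have m0 : y0 = 0 := (mul_eq_zero.1 (show x1 * y0 = 0 by rw [e01, k0, zero_mul])).resolve_left k1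
      refine ⟨y1 / x1, ?_⟩
      rw [k0, m0]
      simp only [smul_add, smul_smul]
      match_scalars <;> field_simp <;>
        first | ring1 | linear_combination e12 | linear_combination -e12
  · refine ⟨y0 / x0, ?_⟩
    simp only [smul_add, smul_smul]
    match_scalars <;> field_simp
    · linear_combination -e01
    · linear_combination -e02

theorem isWr_of_wl (hO : Ovg C K M) (h3 : (3 : F) ≠ 0) (Fa : Frame C.swap a d α) (Fb : Frame C b c w)
    {m : (ι → F) ≃ₗ[F] (ι → F)} (hm : m ∈ M) : IsWr C m := by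
  classical
  have hinv := wl_inv hO h3 Fa Fb m hm
  set E0 := db C b c w 0 with hE0
  have hE : C.SkewA E0 := (skew_fg hO).1 (db_skew Fb 0)
  obtain ⟨X2, Y2, hX2, hY2, e2⟩ :=
    exists_of_wl hO Fa Fb (hinv _ (tm_id_right (a := a) (d := d) (α := α) hO Fb hE))
  have hsplit : X2 = 0 ∨ Y2 = 0 := by
    by_contra! hne
    let v : Fin 3 → Module.End F (ι → F) := fun i => ad m (el C a d α b c w (.inl i))
    have hv : LinearIndependent F v :=
      ((linearIndependent_of_bi (el_bi Fa Fb h3)).comp Sum.inl Sum.inl_injective).map' (ad m)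
        (LinearMap.ker_eq_bot.2 fun Z Z' e => by
          rw [← ad_inv_left m Z, ← ad_inv_left m Z', e])
    have hle : Submodule.span F (Set.range v) ≤
        Submodule.span F (Set.range ![C.tm X2 LinearMap.id, C.tm LinearMap.id Y2]) := by
      refine Submodule.span_le.2 ?_
      rintro _ ⟨i, rfl⟩
      obtain ⟨X', Y', hX', hY', e'⟩ := exists_of_wl hO Fa Fb
        (hinv (el C a d α b c w (.inl i)) (Submodule.subset_span ⟨.inl i, rfl⟩))
      have hc : (C.tm X' LinearMap.id + C.tm LinearMap.id Y') * (C.tm X2 LinearMap.id + C.tm LinearMap.id Y2) =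
          (C.tm X2 LinearMap.id + C.tm LinearMap.id Y2) * (C.tm X' LinearMap.id + C.tm LinearMap.id Y') := by
        rw [← e2, ← e', ← ad_mul_mul, ← ad_mul_mul]
        congr 1
        rw [el, Sum.elim_inl, tm_mul, tm_mul]
        rfl
      obtain ⟨hA, hB⟩ := unique_wl hO (X := X2.comp X' - X'.comp X2) (Y := Y2.comp Y' - Y'.comp Y2)
        (skew_bracket hY2 hY') (by
          rw [add_mul, mul_add, mul_add, add_mul, mul_add, mul_add, tm_mul, tm_mul, tm_mul, tm_mul,
            tm_mul, tm_mul, tm_mul, tm_mul] at hc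
          simp only [LinearMap.id_comp, LinearMap.comp_id] at hc
          have h1 : C.tm (X2.comp X' - X'.comp X2) LinearMap.id =
              C.tm (X2.comp X') LinearMap.id - C.tm (X'.comp X2) LinearMap.id :=
            ((tmL C).flip LinearMap.id).map_sub _ _
          have h2 : C.tm LinearMap.id (Y2.comp Y' - Y'.comp Y2) =
              C.tm LinearMap.id (Y2.comp Y') - C.tm LinearMap.id (Y'.comp Y2) :=
            (tmL C LinearMap.id).map_sub _ _
          rw [h1, h2]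
          linear_combination (norm := module) (-1 : F) • hc)
      obtain ⟨r, hr⟩ := so_comm Fa hX2 hX' (sub_eq_zero.1 hA) hne.1
      obtain ⟨s, hs⟩ := so_comm Fb ((skew_fg hO).2 hY2) ((skew_fg hO).2 hY') (sub_eq_zero.1 hB) hne.2
      show ad m (el C a d α b c w (.inl i)) ∈ _
      rw [e', hr, hs, C.tm_smul, C.tm_smul_right]
      exact add_mem (Submodule.smul_mem _ _ (Submodule.subset_span ⟨0, rfl⟩))
        (Submodule.smul_mem _ _ (Submodule.subset_span ⟨1, rfl⟩))
    have h1 := Submodule.finrank_mono hle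
    rw [finrank_span_eq_card hv] at h1
    have h2 : finrank F (Submodule.span F (Set.range ![C.tm X2 LinearMap.id, C.tm LinearMap.id Y2])) ≤
        Fintype.card (Fin 2) := finrank_range_le_card _
    have h3' := le_trans h1 h2
    simp at h3' 
  -- the square
  set Kb := C.swap.sm b b with hKb
  have hk : ∃ k : F, Kb = k • E0.comp E0 := ⟨(-C.g w w)⁻¹, LinearMap.ext fun z => by
    have e := C.swap.Dop_sq Fb.bb Fb.bw z
    rw [LinearMap.smul_apply, LinearMap.comp_apply, hE0, show db C b c w 0 = C.swap.Dop b w from rfl, e,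
      smul_smul, hKb, sm_apply]
    congr 1
    have := Fb.qw
    simp [show C.swap.f = C.g from rfl, show C.swap.s₁ = 1 from Fb.h2]
    field_simp⟩
  obtain ⟨k, hk⟩ := hk
  have hmb : ∀ u, m (C.t u b) = ad m (C.tm LinearMap.id Kb) (m (C.t u c)) := fun u => by
    rw [ad_apply, m.symm_apply_apply, C.tm_t]
    simp [hKb, sm_apply, show C.swap.f b c = C.g b c from rfl, Fb.bc]
  have hKb2 : Kb.comp Kb = 0 := LinearMap.ext fun z => by
    simp [hKb, sm_apply, show C.swap.f b b = C.g b b from rfl, Fb.bb]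
  have hsq : ad m (C.tm LinearMap.id (E0.comp E0)) =
      ad m (C.tm LinearMap.id E0) * ad m (C.tm LinearMap.id E0) := by
    rw [← ad_mul_mul, tm_mul]; rfl
  obtain ⟨u₀, hu₀⟩ : ∃ u : Fin 3 → F, u ≠ 0 := ⟨_, Fb.b_ne⟩
  have hne : ad m (C.tm LinearMap.id Kb) ≠ 0 := fun e0 => hu₀ (C.t_inj Fb.b_ne (a := u₀) (a' := 0) (by
    have := hmb u₀
    rw [e0, LinearMap.zero_apply, LinearEquiv.map_eq_zero_iff] at this
    rw [this, map_zero, LinearMap.zero_apply]))
  rcases hsplit with h | h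
  · -- the ruling goes to one of the same kind
    subst h
    rw [C.tm_zero, zero_add] at e2
    set R := k • Y2.comp Y2 with hR
    have hZ : ad m (C.tm LinearMap.id Kb) = C.tm LinearMap.id R := by
      rw [hk, C.tm_smul_right, map_smul, hsq, e2, tm_mul, hR, C.tm_smul_right]; rfl
    have hRR : R.comp R = 0 := eq_zero_of_tm_right (C := C) (by
      rw [show C.tm LinearMap.id (R.comp R) = C.tm LinearMap.id R * C.tm LinearMap.id R by
          rw [tm_mul]; rfl, ← hZ, ← ad_mul_mul, tm_mul, hKb2,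
          show C.tm (LinearMap.id.comp LinearMap.id) (0 : (Fin 3 → F) →ₗ[F] (Fin 3 → F)) = 0 from
            (tmL C _).map_zero, map_zero])
    have hRs : ∀ x y, C.g (R x) y = C.g x (R y) := fun x y => by
      have hs : ∀ x y, C.g (Y2 x) y = -C.g x (Y2 y) := (skew_fg hO).2 hY2
      simp [hR, hs, hs x]
    obtain ⟨z₀, hz₀⟩ : ∃ z, R z ≠ 0 := by
      by_contra! hall
      exact hne (by rw [hZ, show R = 0 from LinearMap.ext hall]; exact (tmL C _).map_zero)
    have hiso : ∀ x y, C.g (R x) (R y) = 0 := fun x y => by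
      rw [hRs, show R (R y) = 0 from LinearMap.congr_fun hRR y, map_zero]
    refine .inl (isTen_of_line hO hm Fb.b_ne Fb.bb hz₀ (hiso z₀ z₀) fun u => ?_)
    have hr : ∀ x, C.tm LinearMap.id R x ∈ LinearMap.range (C.t.flip (R z₀)) := fun x => by
      rw [C.eq_sum x, map_sum]
      refine Submodule.sum_mem _ fun i _ => ?_
      obtain ⟨r, hr⟩ := Submodule.mem_span_singleton.1
        (no_plane (C := C.swap) hO.h2 le_rfl (R z₀) (R (Pi.single i 1)) (hiso _ _) (hiso _ _) (hiso _ _) hz₀)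
      exact ⟨r • C.prB (C.dB i) x, by rw [C.tm_t, ← hr]; simp⟩
    obtain ⟨u', hu'⟩ := hr (m (C.t u c))
    exact ⟨u', by rw [hmb, hZ, ← hu']; rfl⟩
  · -- the ruling goes to one of the other kind
    subst h
    rw [show C.tm LinearMap.id (0 : (Fin 3 → F) →ₗ[F] (Fin 3 → F)) = 0 from (tmL C _).map_zero,
      add_zero] at e2
    set R := k • X2.comp X2 with hR
    have hZ : ad m (C.tm LinearMap.id Kb) = C.tm R LinearMap.id := by
      rw [hk, C.tm_smul_right, map_smul, hsq, e2, tm_mul, hR, C.tm_smul]; rfl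
    have hRR : R.comp R = 0 := eq_zero_of_tm_left (C := C) (by
      rw [show C.tm (R.comp R) LinearMap.id = C.tm R LinearMap.id * C.tm R LinearMap.id by
          rw [tm_mul]; rfl, ← hZ, ← ad_mul_mul, tm_mul, hKb2,
          show C.tm (LinearMap.id.comp LinearMap.id) (0 : (Fin 3 → F) →ₗ[F] (Fin 3 → F)) = 0 from
            (tmL C _).map_zero, map_zero])
    have hRs : ∀ x y, C.f (R x) y = C.f x (R y) := fun x y => by
      simp [hR, hX2 _ _, hX2 x]
    obtain ⟨z₀, hz₀⟩ : ∃ z, R z ≠ 0 := by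
      by_contra! hall
      exact hne (by rw [hZ, show R = 0 from LinearMap.ext hall, C.tm_zero])
    have hiso : ∀ x y, C.f (R x) (R y) = 0 := fun x y => by
      rw [hRs, show R (R y) = 0 from LinearMap.congr_fun hRR y, map_zero]
    refine .inr (isTenS_of_line hO hm Fb.b_ne Fb.bb hz₀ (hiso z₀ z₀) fun u => ?_)
    have hr : ∀ x, C.tm R LinearMap.id x ∈ LinearMap.range (C.t (R z₀)) := fun x => by
      rw [C.eq_sum x, map_sum]
      refine Submodule.sum_mem _ fun i _ => ?_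
      obtain ⟨r, hr⟩ := Submodule.mem_span_singleton.1 (no_plane (C := C) hO.h1 le_rfl (R z₀)
        (R (C.prB (C.dB i) x)) (hiso _ _) (hiso _ _) (hiso _ _) hz₀)
      exact ⟨r • Pi.single i 1, by rw [C.tm_t, ← hr]; simp⟩
    obtain ⟨u', hu'⟩ := hr (m (C.t u c))
    exact ⟨u', by rw [hmb, hZ, ← hu']⟩

/-! ### pure tensors -/

theorem pure_add {u u' v v' : Fin 3 → F} (hu : u ≠ 0) (hv : v ≠ 0) {u'' v'' : Fin 3 → F}
    (h : C.t u v + C.t u' v' = C.t u'' v'') : u' ∈ F ∙ u ∨ v' ∈ F ∙ v := by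
  by_contra! hne
  have hli : LinearIndependent F ![u, u'] := by
    rw [LinearIndependent.pair_iff' hu]
    exact fun r hr => hne.1 (Submodule.mem_span_singleton.2 ⟨r, hr⟩)
  obtain ⟨x, hx, hx'⟩ := exists_dual_pair (C := C) hli
  obtain ⟨x', hy, hy'⟩ := exists_dual_pair (C := C) (LinearIndependent.pair_symm_iff.1 hli)
  have e := congrArg (C.prA x) h
  have e' := congrArg (C.prA x') h
  simp [C.prA_t, hx, hx', hy, hy'] at e e'
  refine hne.2 (Submodule.mem_span_singleton.2 ⟨C.f u'' x' / C.f u'' x, ?_⟩)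
  have h0 : C.f u'' x ≠ 0 := fun h0 => hv (by rw [e, h0, zero_smul])
  rw [e', e, smul_smul, div_mul_cancel₀ _ h0]

theorem line_of_pure {L : (Fin 3 → F) →ₗ[F] (ι → F)} (hL : Function.Injective L)
    (h : ∀ u, ∃ u' z, L u = C.t u' z) :
    (∃ z, z ≠ 0 ∧ ∀ u, ∃ u', L u = C.t u' z) ∨ (∃ a₁, a₁ ≠ 0 ∧ ∀ u, ∃ z, L u = C.t a₁ z) := by
  choose P Q hPQ using h
  set u₁ : Fin 3 → F := Pi.single 0 1
  have hne : ∀ u, u ≠ 0 → P u ≠ 0 ∧ Q u ≠ 0 := fun u hu =>
    ⟨fun h => hu (hL (by rw [hPQ, h, map_zero L]; simp)), fun h => hu (hL (by rw [hPQ, h, map_zero L]; simp))⟩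
  obtain ⟨hp, hq⟩ := hne u₁ (by simp [u₁])
  by_cases hall : ∀ u, ∃ u', L u = C.t u' (Q u₁)
  · exact .inl ⟨_, hq, hall⟩
  push Not at hall
  obtain ⟨u₂, hu₂⟩ := hall
  have hu20 : u₂ ≠ 0 := fun e => hu₂ 0 (by rw [e, map_zero L]; simp)
  obtain ⟨hp₂, hq₂⟩ := hne u₂ hu20
  have hsum : ∀ v v', C.t (P v) (Q v) + C.t (P v') (Q v') = C.t (P (v + v')) (Q (v + v')) := fun v v' => by
    rw [← hPQ, ← hPQ, ← hPQ, map_add]
  have hq2n : Q u₂ ∉ F ∙ Q u₁ := fun hm => by
    obtain ⟨r, hr⟩ := Submodule.mem_span_singleton.1 hm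
    exact hu₂ (r • P u₂) (by rw [hPQ, ← hr]; simp)
  have hp2 : P u₂ ∈ F ∙ P u₁ := (pure_add hp hq (hsum u₁ u₂)).resolve_right hq2n
  refine .inr ⟨_, hp, fun u => ?_⟩
  by_cases hu0 : u = 0
  · exact ⟨0, by rw [hu0, map_zero L]; simp⟩
  obtain ⟨-, hqu⟩ := hne u hu0
  suffices P u ∈ F ∙ P u₁ by
    obtain ⟨r, hr⟩ := Submodule.mem_span_singleton.1 this
    exact ⟨r • Q u, by rw [hPQ, ← hr]; simp⟩
  rcases pure_add hp hq (hsum u₁ u) with h | h
  · exact h
  rcases pure_add hp₂ hq₂ (hsum u₂ u) with h' | h'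
  · exact (Submodule.span_singleton_le_iff_mem _ _).2 hp2 h'
  · obtain ⟨r, hr⟩ := Submodule.mem_span_singleton.1 h
    obtain ⟨s, hs⟩ := Submodule.mem_span_singleton.1 h'
    have hs0 : s ≠ 0 := fun e => hqu (by rw [← hs, e, zero_smul])
    refine absurd (Submodule.mem_span_singleton.2 ⟨s⁻¹ * r, ?_⟩) hq2n
    rw [mul_smul, hr, ← hs, smul_smul, inv_mul_cancel₀ hs0, one_smul]

theorem finrank_w2_pure (hO : Ovg C K M) (Fa : Frame C.swap a d α) (Fb : Frame C b c w) (u z : Fin 3 → F) :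
    finrank F ((w2 C a d α b c w).map (LinearMap.applyₗ (C.t u z))) ≤ 4 := by
  classical
  by_cases h0 : u = 0 ∨ z = 0
  · have e : C.t u z = 0 := by rcases h0 with rfl | rfl <;> simp
    rw [e, map_zero, Submodule.map_zero, finrank_bot]
    omega
  push Not at h0
  have hker : ∀ (φ : Module.Dual F (Fin 3 → F)), φ ≠ 0 → finrank F (LinearMap.ker φ) = 2 := fun φ hφ => by
    have := Module.Dual.finrank_ker_add_one_of_ne_zero hφ
    rw [Module.finrank_fin_fun] at this
    omega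
  obtain ⟨e₁, e₂, -, -, -, he⟩ := exists_two_basis (hker (C.f u) fun e => h0.1 (C.fnd u fun x => by rw [e]; rfl))
  obtain ⟨f₁, f₂, -, -, -, hf⟩ := exists_two_basis (hker (C.g z) fun e => h0.2 (C.gnd z fun x => by rw [e]; rfl))
  set v : Fin 4 → (ι → F) := ![C.t e₁ f₁, C.t e₁ f₂, C.t e₂ f₁, C.t e₂ f₂] with hv
  refine le_trans (Submodule.finrank_mono (t := Submodule.span F (Set.range v)) ?_)
    ((finrank_range_le_card v).trans (by simp))
  rw [w2, Submodule.map_span, Submodule.span_le]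
  rintro _ ⟨_, ⟨⟨i, j⟩, rfl⟩, rfl⟩
  have hX : C.f u (db C.swap a d α i u) = 0 := by
    have e : C.f (db C.swap a d α i u) u = -C.f u (db C.swap a d α i u) := db_skew Fa i u u
    rw [f_comm hO.h1 _ u] at e
    exact (mul_eq_zero.1 (show (2 : F) * C.f u (db C.swap a d α i u) = 0 by linear_combination e)).resolve_left
      C.two
  have hY : C.g z (db C b c w j z) = 0 := by
    have e : C.g (db C b c w j z) z = -C.g z (db C b c w j z) := db_skew Fb j z z
    rw [gcomm hO.h2 _ z] at e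
    exact (mul_eq_zero.1 (show (2 : F) * C.g z (db C b c w j z) = 0 by linear_combination e)).resolve_left C.two
  obtain ⟨r, s, hr⟩ := he _ (LinearMap.mem_ker.2 hX)
  obtain ⟨r', s', hr'⟩ := hf _ (LinearMap.mem_ker.2 hY)
  show ew C a d α b c w (i, j) (C.t u z) ∈ Submodule.span F (Set.range v)
  rw [ew, C.tm_t]
  dsimp only
  rw [hr, hr']
  have m : ∀ k, v k ∈ Submodule.span F (Set.range v) := fun k => Submodule.subset_span ⟨k, rfl⟩
  have := add_mem (add_mem (Submodule.smul_mem _ (r * r') (m 0)) (Submodule.smul_mem _ (r * s') (m 1)))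
    (add_mem (Submodule.smul_mem _ (s * r') (m 2)) (Submodule.smul_mem _ (s * s') (m 3)))
  convert this using 1
  simp [hv, smul_smul]

theorem finrank_w2_not_pure (hO : Ovg C K M) (Fa : Frame C.swap a d α) (Fb : Frame C b c w) {x : ι → F}
    (hx : ¬ ∃ u z, x = C.t u z) : 5 ≤ finrank F ((w2 C a d α b c w).map (LinearMap.applyₗ x)) := by
  classical
  obtain ⟨y, y', hyy⟩ : ∃ y y', LinearIndependent F ![C.prB y x, C.prB y' x] := by
    by_contra! hall
    refine hx ?_
    by_cases h0 : ∀ i, C.prB (C.dB i) x = 0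
    · exact ⟨0, 0, by rw [C.eq_sum x]; simp [h0]⟩
    push Not at h0
    obtain ⟨i, hi⟩ := h0
    have hmem : ∀ j, ∃ r : F, r • C.prB (C.dB i) x = C.prB (C.dB j) x := fun j => by
      by_contra! hno
      exact hall _ (C.dB j) ((LinearIndependent.pair_iff' hi).2 hno)
    choose r hr using hmem
    refine ⟨C.prB (C.dB i) x, ∑ j, r j • Pi.single j 1, ?_⟩
    rw [map_sum]
    refine (C.eq_sum x).trans (Finset.sum_congr rfl fun j _ => ?_)
    rw [← hr j, map_smul, LinearMap.smul_apply, map_smul]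
  set u₁ := C.prB y x with hu₁
  set u₂ := C.prB y' x with hu₂
  have h1 := hO.h1
  obtain ⟨x₁, h11, h21⟩ := exists_dual_pair (C := C) hyy
  obtain ⟨x₂, h22', h12⟩ := exists_dual_pair (C := C) (LinearIndependent.pair_symm_iff.1 hyy)
  obtain ⟨x₃, hx₃, hx₃0⟩ := C4.SS.exists_ker_not_mem ![C.f u₁, C.f u₂] (⊥ : Submodule F (Fin 3 → F))
    (by rw [finrank_bot]; omega)
  have h13 : C.f u₁ x₃ = 0 := hx₃ 0
  have h23 : C.f u₂ x₃ = 0 := hx₃ 1
  obtain ⟨t₃, ht₃⟩ := C.exists_dual (show x₃ ≠ 0 by simpa using hx₃0)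
  set u₃ := t₃ - C.f t₃ x₁ • u₁ - C.f t₃ x₂ • u₂ with hu₃
  have h31 : C.f u₃ x₁ = 0 := by simp [hu₃, h11, h21]
  have h32 : C.f u₃ x₂ = 0 := by simp [hu₃, h22', h12]
  have h33 : C.f u₃ x₃ = 1 := by simp [hu₃, h13, h23, f_comm h1 t₃ x₃, ht₃]
  have hliX : LinearIndependent F ![x₁, x₂, x₃] := by
    rw [Fintype.linearIndependent_iff]
    intro k hk
    simp [Fin.sum_univ_three] at hk
    have e0 := congrArg (C.f u₁) hk
    have e1 := congrArg (C.f u₂) hk
    have e2 := congrArg (C.f u₃) hk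
    simp [h11, h12, h13, h21, h22', h23, h31, h32, h33] at e0 e1 e2
    intro i
    fin_cases i <;> assumption
  have hsum : ∀ v, v = C.f v x₁ • u₁ + C.f v x₂ • u₂ + C.f v x₃ • u₃ := fun v => C.f_ext fun z => by
    have hz : z ∈ Submodule.span F (Set.range ![x₁, x₂, x₃]) := by
      rw [hliX.span_eq_top_of_card_eq_finrank (by simp)]; trivial
    obtain ⟨k, rfl⟩ := (Submodule.mem_span_range_iff_exists_fun F).1 hz
    simp [Fin.sum_univ_three, h11, h12, h13, h21, h22', h23, h31, h32, h33]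
    ring
  set v₁ := C.prA x₁ x with hv₁
  set v₂ := C.prA x₂ x with hv₂
  set v₃ := C.prA x₃ x with hv₃
  have hx' : x = C.t u₁ v₁ + C.t u₂ v₂ + C.t u₃ v₃ :=
    LinearMap.congr_fun (C.ext_pure (L := LinearMap.id)
      (L' := (C.t u₁).comp (C.prA x₁) + (C.t u₂).comp (C.prA x₂) + (C.t u₃).comp (C.prA x₃))
      fun u z => by
        conv_lhs => rw [hsum u]
        simp [C.prA_t]) x
  have hgv : ∀ (xk : Fin 3 → F) (yy : Fin 3 → F), C.g (C.prA xk x) yy = C.f (C.prB yy x) xk := fun xk yy => by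
    rw [C.g_prA, C.f_prB]
  have g11 : C.g v₁ y = 1 := by rw [hv₁, hgv, ← hu₁, h11]
  have g12 : C.g v₁ y' = 0 := by rw [hv₁, hgv, ← hu₂, h21]
  have g21 : C.g v₂ y = 0 := by rw [hv₂, hgv, ← hu₁, h12]
  have g22 : C.g v₂ y' = 1 := by rw [hv₂, hgv, ← hu₂, h22']
  have g31 : C.g v₃ y = 0 := by rw [hv₃, hgv, ← hu₁, h13]
  have g32 : C.g v₃ y' = 0 := by rw [hv₃, hgv, ← hu₂, h23]
  obtain ⟨y₃, hy₃, hy₃0⟩ := C4.SS.exists_ker_not_mem ![C.g v₁, C.g v₂] (⊥ : Submodule F (Fin 3 → F))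
    (by rw [finrank_bot]; omega)
  have g13 : C.g v₁ y₃ = 0 := hy₃ 0
  have g23 : C.g v₂ y₃ = 0 := hy₃ 1
  have hy30 : y₃ ≠ 0 := by simpa using hy₃0
  have f1 : ∀ (p q : Fin 3 → F), C.f p q = C.f q p := f_comm h1
  have hmem : ∀ (p q : Fin 3 → F) (r r' : Fin 3 → F),
      C.tm (C.Dop p q) (C.swap.Dop r r') x ∈ (w2 C a d α b c w).map (LinearMap.applyₗ x) :=
    fun p q r r' => Submodule.mem_map_of_mem (f := LinearMap.applyₗ x)
      (tm_mem_w2 hO Fa Fb (C.skewA_Dop p q) ((skew_fg hO).1 (C.swap.skewA_Dop r r')))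
  set R : Fin 5 → (ι → F) := ![C.tm (C.Dop x₁ x₂) (C.swap.Dop y y') x,
    C.tm (C.Dop x₁ x₂) (C.swap.Dop y y₃) x, C.tm (C.Dop x₁ x₂) (C.swap.Dop y' y₃) x,
    C.tm (C.Dop x₁ x₃) (C.swap.Dop y y') x, C.tm (C.Dop x₂ x₃) (C.swap.Dop y y') x] with hR
  have hD : ∀ p q v, C.Dop p q v = C.f q v • p - C.f p v • q := fun p q v => by simp [Dop_apply, h1]
  have hD' : ∀ p q v, C.swap.Dop p q v = C.g v q • p - C.g v p • q := fun p q v => by
    simp [Dop_apply, show C.swap.f = C.g from rfl, show C.swap.s₁ = 1 from hO.h2, gcomm hO.h2 v]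
  have r0 : R 0 = C.t x₂ y' + C.t x₁ y := by
    show C.tm _ _ x = _
    rw [hx']
    simp [C.tm_t, hD, hD', f1 x₁, f1 x₂, f1 x₃, h11, h12, h13, h21, h22', h23, h31, h32, h33,
      g11, g12, g21, g22, g31, g32, g13, g23]
  have r1 : R 1 = C.t x₂ y₃ := by
    show C.tm _ _ x = _
    rw [hx']
    simp [C.tm_t, hD, hD', f1 x₁, f1 x₂, f1 x₃, h11, h12, h13, h21, h22', h23, h31, h32, h33,
      g11, g12, g21, g22, g31, g32, g13, g23]
  have r2 : R 2 = -C.t x₁ y₃ := by
    show C.tm _ _ x = _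
    rw [hx']
    simp [C.tm_t, hD, hD', f1 x₁, f1 x₂, f1 x₃, h11, h12, h13, h21, h22', h23, h31, h32, h33,
      g11, g12, g21, g22, g31, g32, g13, g23]
  have r3 : R 3 = C.t x₃ y' := by
    show C.tm _ _ x = _
    rw [hx']
    simp [C.tm_t, hD, hD', f1 x₁, f1 x₂, f1 x₃, h11, h12, h13, h21, h22', h23, h31, h32, h33,
      g11, g12, g21, g22, g31, g32, g13, g23]
  have r4 : R 4 = -C.t x₃ y := by
    show C.tm _ _ x = _
    rw [hx']
    simp [C.tm_t, hD, hD', f1 x₁, f1 x₂, f1 x₃, h11, h12, h13, h21, h22', h23, h31, h32, h33,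
      g11, g12, g21, g22, g31, g32, g13, g23]
  have hli : LinearIndependent F R := by
    rw [Fintype.linearIndependent_iff]
    intro k hk
    rw [Fin.sum_univ_five, r0, r1, r2, r3, r4] at hk
    have k1 := congrArg (C.prA u₁) hk
    have k2 := congrArg (C.prA u₂) hk
    have k3 := congrArg (C.prA u₃) hk
    simp [C.prA_t, f1 x₁, f1 x₂, f1 x₃, h11, h12, h13, h21, h22', h23, h31, h32, h33] at k1 k2 k3
    have e0 := congrArg (C.g v₁) k1
    have e2 := congrArg (C.g v₂) k3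
    have e3 := congrArg (C.g v₁) k3
    simp [g11, g12, g21, g22, g13, g23] at e0 e2 e3
    rw [e0] at k1 k2
    simp [hy30] at k1 k2
    intro i
    fin_cases i
    · exact e0
    · exact k2
    · exact k1
    · exact e2
    · exact e3
  have hle : Submodule.span F (Set.range R) ≤ (w2 C a d α b c w).map (LinearMap.applyₗ x) := by
    refine Submodule.span_le.2 ?_
    rintro _ ⟨i, rfl⟩
    fin_cases i <;> exact hmem _ _ _ _
  have := Submodule.finrank_mono hle
  rwa [finrank_span_eq_card hli, Fintype.card_fin] at this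

theorem isWr_of_w2 (hO : Ovg C K M) (hq : 5 < Fintype.card F) (Fa : Frame C.swap a d α) (Fb : Frame C b c w)
    {m : (ι → F) ≃ₗ[F] (ι → F)} (hm : m ∈ M) : IsWr C m := by
  have hinv := w2_inv hO hq Fa Fb m⁻¹ (inv_mem hm)
  have hpure : ∀ u z, ∃ u' z', m (C.t u z) = C.t u' z' := fun u z => by
    by_contra hne
    have h5 := finrank_w2_not_pure hO Fa Fb hne
    have hle : (w2 C a d α b c w).map (LinearMap.applyₗ (m (C.t u z))) ≤
        ((w2 C a d α b c w).map (LinearMap.applyₗ (C.t u z))).map m.toLinearMap := by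
      rintro _ ⟨Z, hZ, rfl⟩
      refine ⟨ad m⁻¹ Z (C.t u z), ⟨_, hinv Z hZ, rfl⟩, ?_⟩
      exact m.apply_symm_apply _
    have := (Submodule.finrank_mono hle).trans (Submodule.finrank_map_le _ _)
    have := finrank_w2_pure hO Fa Fb u z
    omega
  obtain ⟨z, hz, hL⟩ | ⟨a₁, ha₁, hL⟩ := line_of_pure (C := C) (L := m.toLinearMap.comp (C.t.flip b))
    (fun u u' e => C.t_inj Fb.b_ne (m.injective e)) fun u => hpure u b
  · refine .inl (isTen_of_line hO hm Fb.b_ne Fb.bb hz ?_ hL)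
    obtain ⟨y, hy⟩ := exists_aniso (C := C) hO.h1 le_rfl
    obtain ⟨y₁, hy₁⟩ : ∃ u, ∃ u', m (C.t u b) = C.t u' z ∧ C.f u' u' ≠ 0 := by
      let φ : (Fin 3 → F) →ₗ[F] (Fin 3 → F) := (C.prB (C.swap.exists_dual hz).choose).comp
        (m.toLinearMap.comp (C.t.flip b))
      have hφ : ∀ u, m (C.t u b) = C.t (φ u) z := fun u => by
        obtain ⟨u', hu'⟩ := hL u
        have e : C.g z (C.swap.exists_dual hz).choose = 1 := (C.swap.exists_dual hz).choose_spec
        show m (C.t u b) = C.t (C.prB _ (m (C.t u b))) z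
        rw [show m (C.t u b) = C.t u' z from hu', C.prB_t, e, one_smul]
      have hinj : Function.Injective φ := fun u u' e => C.t_inj Fb.b_ne (m.injective (by rw [hφ, hφ, e]))
      obtain ⟨u, hu⟩ := LinearMap.injective_iff_surjective.1 hinj y
      exact ⟨u, y, by rw [hφ, hu], hy⟩
    obtain ⟨u', e, hu'⟩ := hy₁
    have := hO.isoM hm (C.t y₁ b) (C.t y₁ b)
    rw [e, C.pol, C.pol, Fb.bb, mul_zero] at this
    exact (mul_eq_zero.1 this).resolve_left hu'
  · refine .inr (isTenS_of_line hO hm Fb.b_ne Fb.bb ha₁ ?_ hL)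
    obtain ⟨y', hy'⟩ := exists_aniso (C := C.swap) hO.h2 le_rfl
    have hy : C.g y' y' ≠ 0 := hy'
    choose ψ hψ using hL
    obtain ⟨x₁, hx₁⟩ := C.exists_dual ha₁
    let φ : (Fin 3 → F) →ₗ[F] (Fin 3 → F) := (C.prA x₁).comp (m.toLinearMap.comp (C.t.flip b))
    have hφ : ∀ u, m (C.t u b) = C.t a₁ (φ u) := fun u => by
      show m (C.t u b) = C.t a₁ (C.prA x₁ (m (C.t u b)))
      rw [show m (C.t u b) = C.t a₁ (ψ u) from hψ u, C.prA_t, hx₁, one_smul]
    have hinj : Function.Injective φ := fun u u' e => C.t_inj Fb.b_ne (m.injective (by rw [hφ, hφ, e]))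
    obtain ⟨u, hu⟩ := LinearMap.injective_iff_surjective.1 hinj y'
    have := hO.isoM hm (C.t u b) (C.t u b)
    rw [hφ, hu, C.pol, C.pol, Fb.bb, mul_zero] at this
    exact (mul_eq_zero.1 this).resolve_right hy

/-- Every element of the overgroup lies in the wreath part. -/
theorem isWr_of_mem_ovg (hO : Ovg C K M) {m : (ι → F) ≃ₗ[F] (ι → F)} (hm : m ∈ M) : IsWr C m := by
  obtain ⟨b, hb0, hb⟩ := exists_isotropic (C := C.swap) hO.h2 le_rfl
  obtain ⟨c, w, Fb⟩ := exists_frame hO.h2 hb0 hb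
  obtain ⟨a, ha0, ha⟩ := exists_isotropic (C := C) hO.h1 le_rfl
  obtain ⟨d, α, Fa⟩ := exists_frame (C := C.swap) hO.h1 ha0 ha
  by_cases h3 : (3 : F) = 0
  · refine isWr_of_w2 hO ?_ Fa Fb hm
    have h5 := hO.card
    refine lt_of_le_of_ne h5 fun e => C.two ?_
    have e5 : ((5 : ℕ) : F) = 0 := by rw [e]; exact FiniteField.cast_card_eq_zero F
    push_cast at e5
    linear_combination e5 - h3
  · exact isWr_of_wl hO h3 Fa Fb hm

end Cfsg.Agent.TenForm.ThreeThree
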